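import Mathlib
import Cfsg.Agent.Lib.ClassPi.Coset
import Cfsg.Agent.Lib.Transfer.Hall
import Cfsg.Agent.Lib.Hall.Carter

/-!
Counting classes of elements whose order has only primes from a given finite set.
-/

set_option autoImplicit false
set_option linter.style.haveILetI false

namespace CfsgLib.ManyPiClasses

open CfsgLib.ClassPi

universe u

variable {G : Type u} [Group G]

/-- The number of classes of elements with all primes of the order in `σ`. -/
noncomputable def kS (σ : Finset ℕ) (G : Type u) [Group G] : ℕ :=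
  Nat.card (PiClasses (↑σ : Set ℕ) G)

/-- The part of the order for the primes in `σ`. -/
noncomputable def mS (σ : Finset ℕ) (G : Type u) [Group G] : ℕ :=
  ∏ r ∈ σ, r ^ (Nat.card G).factorization r

theorem mS_pos {σ : Finset ℕ} (hσ : ∀ r ∈ σ, r.Prime) : 0 < mS σ G :=
  Finset.prod_pos fun r hr => Nat.pow_pos (hσ r hr).pos

theorem mS_factorization {σ : Finset ℕ} (hσ : ∀ r ∈ σ, r.Prime) (q : ℕ) :
    (mS σ G).factorization q = if q ∈ σ then (Nat.card G).factorization q else 0 := by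
  classical
  rw [mS, Nat.factorization_prod_apply fun r hr => (Nat.pow_pos (hσ r hr).pos).ne']
  rw [Finset.sum_congr rfl fun r hr => by
    rw [(hσ r hr).factorization_pow, Finsupp.single_apply]]
  rw [Finset.sum_ite_eq']

theorem prime_of_dvd_mS {σ : Finset ℕ} (hσ : ∀ r ∈ σ, r.Prime) {q : ℕ} (hq : q.Prime)
    (hd : q ∣ mS σ G) : q ∈ σ := by
  by_contra h
  have := (hq.dvd_iff_one_le_factorization (mS_pos hσ).ne').mp hd
  rw [mS_factorization hσ, if_neg h] at this
  omega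

theorem mS_dvd [Finite G] {σ : Finset ℕ} (hσ : ∀ r ∈ σ, r.Prime) : mS σ G ∣ Nat.card G := by
  refine (Nat.factorization_le_iff_dvd (mS_pos hσ).ne' Nat.card_pos.ne').mp fun q => ?_
  rw [mS_factorization hσ]
  split_ifs
  · exact le_rfl
  · exact Nat.zero_le _

theorem mS_coprime [Finite G] {σ : Finset ℕ} (hσ : ∀ r ∈ σ, r.Prime) {H : Subgroup G}
    (hH : Nat.card H = mS σ G) : (Nat.card H).Coprime H.index := by
  refine Nat.coprime_of_dvd fun q hq hqH hqi => ?_
  rw [hH] at hqH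
  have h1 := congrArg (fun n => n.factorization q) H.card_mul_index
  simp only [Nat.factorization_mul Nat.card_pos.ne' H.index_ne_zero_of_finite,
    Finsupp.add_apply] at h1
  rw [hH, mS_factorization hσ, if_pos (prime_of_dvd_mS hσ hq hqH)] at h1
  have h2 := (hq.dvd_iff_one_le_factorization H.index_ne_zero_of_finite).mp hqi
  omega

theorem mS_dvd_mS [Finite G] {σ : Finset ℕ} (hσ : ∀ r ∈ σ, r.Prime) (C : Subgroup G) :
    mS σ C ∣ mS σ G := by
  refine Finset.prod_dvd_prod_of_dvd _ _ fun r hr => pow_dvd_pow r ?_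
  exact (Nat.factorization_le_iff_dvd Nat.card_pos.ne' Nat.card_pos.ne').mpr
    C.card_subgroup_dvd_card r

theorem mS_le [Finite G] {σ : Finset ℕ} (hσ : ∀ r ∈ σ, r.Prime) (C : Subgroup G) :
    mS σ C ≤ mS σ G :=
  Nat.le_of_dvd (mS_pos hσ) (mS_dvd_mS hσ C)

/-- A proper part is smaller by a factor at least the least prime. -/
theorem mul_mS_le [Finite G] {σ : Finset ℕ} (hσ : ∀ r ∈ σ, r.Prime) {b : ℕ} (hb : ∀ r ∈ σ, b ≤ r)
    (C : Subgroup G) (hne : mS σ C ≠ mS σ G) : b * mS σ C ≤ mS σ G := by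
  obtain ⟨c, hc⟩ := mS_dvd_mS hσ C
  have hc1 : c ≠ 1 := fun h => hne (by rw [hc, h, mul_one])
  obtain ⟨q, hq, hqc⟩ := Nat.exists_prime_and_dvd hc1
  have hc0 : c ≠ 0 := fun h => (mS_pos hσ (G := G)).ne' (by rw [hc, h, mul_zero])
  have hqσ : q ∈ σ := prime_of_dvd_mS hσ hq (hqc.trans (Dvd.intro_left _ hc.symm))
  calc b * mS σ C ≤ c * mS σ C :=
        Nat.mul_le_mul_right _ ((hb q hqσ).trans (Nat.le_of_dvd (Nat.pos_of_ne_zero hc0) hqc))
    _ = mS σ G := by rw [hc, mul_comm]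

theorem orderOf_eq_of_mk_eq {x y : G} (h : ConjClasses.mk x = ConjClasses.mk y) :
    orderOf x = orderOf y := by
  obtain ⟨c, hc⟩ := isConj_iff.mp (ConjClasses.mk_eq_mk_iff_isConj.mp h)
  rw [← hc, ← MulAut.conj_apply, MulEquiv.orderOf_eq]

theorem isPiEl_of_class {π : Set ℕ} (C : PiClasses π G) {x : G} (hx : ConjClasses.mk x = C.1) :
    IsPiEl π x := fun q hq hd => C.2 q hq ⟨x, hx, hd⟩

theorem out_spec {π : Set ℕ} (C : PiClasses π G) : IsPiEl π C.1.out :=
  isPiEl_of_class C (Quotient.out_eq _)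

/-- The class of an element. -/
def mkClass {π : Set ℕ} {x : G} (h : IsPiEl π x) : PiClasses π G :=
  ⟨ConjClasses.mk x, fun q hq ⟨_, hy, hd⟩ => h q hq (orderOf_eq_of_mk_eq hy ▸ hd)⟩

instance (π : Set ℕ) [Finite G] : Finite (PiClasses π G) := Subtype.finite

/-- Only the class of the identity. -/
theorem kS_empty_le [Finite G] : kS ∅ G ≤ 1 := by
  have h : ∀ C : PiClasses (↑(∅ : Finset ℕ) : Set ℕ) G, C.1 = ConjClasses.mk 1 := by
    intro C
    obtain ⟨x, hx⟩ := ConjClasses.exists_rep C.1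
    rw [← hx]
    congr 1
    rw [← orderOf_eq_one_iff]
    by_contra hne
    obtain ⟨q, hq, hqd⟩ := Nat.exists_prime_and_dvd hne
    simpa using isPiEl_of_class C hx q hq hqd
  refine (Finite.card_le_one_iff_subsingleton).mpr ⟨fun C D => Subtype.ext ?_⟩
  rw [h C, h D]

/-- The classes are fibred over the classes of the `a`-parts. -/
theorem kS_le_sum [Finite G] {σ : Finset ℕ} (a : ℕ) [Fintype (PiClasses ({a} : Set ℕ) G)] :
    kS σ G ≤ ∑ C : PiClasses ({a} : Set ℕ) G,
      kS (σ.erase a) (Subgroup.centralizer ({C.1.out} : Set G)) := by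
  classical
  simp only [kS]
  rw [← Nat.card_sigma]
  let f : PiClasses (↑σ : Set ℕ) G → PiClasses ({a} : Set ℕ) G := fun D =>
    mkClass (piP_spec ({a} : Set ℕ) D.1.out).2.2.2.1
  have hw : ∀ D, ∃ w : G, w * piP ({a} : Set ℕ) D.1.out * w⁻¹ = (f D).1.out := fun D => by
    refine isConj_iff.mp (ConjClasses.mk_eq_mk_iff_isConj.mp ?_)
    exact (Quotient.out_eq (f D).1).symm
  choose w hw using hw
  have hc : ∀ D : PiClasses (↑σ : Set ℕ) G,
      w D * coP ({a} : Set ℕ) D.1.out * (w D)⁻¹ ∈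
        Subgroup.centralizer ({(f D).1.out} : Set G) := by
    intro D
    obtain ⟨h1, h2, h3, h4, h5⟩ := piP_spec ({a} : Set ℕ) D.1.out
    rw [Subgroup.mem_centralizer_singleton_iff, ← hw D]
    obtain ⟨i, hi⟩ := Subgroup.mem_zpowers_iff.mp h2
    obtain ⟨j, hj⟩ := Subgroup.mem_zpowers_iff.mp h3
    rw [← hi, ← hj]
    have e : D.1.out ^ j * D.1.out ^ i = D.1.out ^ i * D.1.out ^ j :=
      ((Commute.refl D.1.out).zpow_zpow j i).eq
    calc w D * D.1.out ^ j * (w D)⁻¹ * (w D * D.1.out ^ i * (w D)⁻¹)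
        = w D * (D.1.out ^ j * D.1.out ^ i) * (w D)⁻¹ := by group
      _ = w D * (D.1.out ^ i * D.1.out ^ j) * (w D)⁻¹ := by rw [e]
      _ = _ := by group
  have hel : ∀ D : PiClasses (↑σ : Set ℕ) G,
      IsPiEl (↑(σ.erase a) : Set ℕ) (⟨_, hc D⟩ : Subgroup.centralizer ({(f D).1.out} : Set G)) := by
    intro D q hq hd
    obtain ⟨h1, h2, h3, h4, h5⟩ := piP_spec ({a} : Set ℕ) D.1.out
    rw [← Subgroup.orderOf_coe] at hd
    change q ∣ orderOf (MulAut.conj (w D) (coP ({a} : Set ℕ) D.1.out)) at hd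
    rw [MulEquiv.orderOf_eq] at hd
    rw [Finset.coe_erase]
    exact ⟨out_spec D q hq (hd.trans (orderOf_dvd_of_mem_zpowers h3)), h5 q hq hd⟩
  refine Nat.card_le_card_of_injective (fun D => ⟨f D, mkClass (hel D)⟩) fun D E h => ?_
  simp only at h
  obtain ⟨h0, h1⟩ := Sigma.mk.inj_iff.mp h
  have hy : (f D).1.out = (f E).1.out := by rw [h0]
  -- transport to one centralizer
  have h2 : ∃ c : G, c ∈ Subgroup.centralizer ({(f D).1.out} : Set G) ∧
      c * (w D * coP ({a} : Set ℕ) D.1.out * (w D)⁻¹) * c⁻¹ =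
        w E * coP ({a} : Set ℕ) E.1.out * (w E)⁻¹ := by
    revert h1
    have gen : ∀ (C C' : PiClasses ({a} : Set ℕ) G), C = C' →
        ∀ (u : G) (hu : u ∈ Subgroup.centralizer ({C.1.out} : Set G))
          (hu' : IsPiEl (↑(σ.erase a) : Set ℕ) (⟨u, hu⟩ : Subgroup.centralizer ({C.1.out} : Set G)))
          (v : G) (hv : v ∈ Subgroup.centralizer ({C'.1.out} : Set G))
          (hv' : IsPiEl (↑(σ.erase a) : Set ℕ) (⟨v, hv⟩ : Subgroup.centralizer ({C'.1.out} : Set G))),
          HEq (mkClass hu') (mkClass hv') →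
          ∃ c : G, c ∈ Subgroup.centralizer ({C.1.out} : Set G) ∧ c * u * c⁻¹ = v := by
      rintro C _ rfl u hu hu' v hv hv' he
      have h3 := congrArg Subtype.val (eq_of_heq he)
      obtain ⟨c, hc'⟩ := isConj_iff.mp (ConjClasses.mk_eq_mk_iff_isConj.mp h3)
      exact ⟨c, c.2, congrArg Subtype.val hc'⟩
    exact fun h1 => gen _ _ h0 _ (hc D) (hel D) _ (hc E) (hel E) h1
  obtain ⟨c, hcm, hce⟩ := h2
  refine Subtype.ext ?_
  rw [← Quotient.out_eq D.1, ← Quotient.out_eq E.1]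
  refine ConjClasses.mk_eq_mk_iff_isConj.mpr (isConj_iff.mpr ⟨(w E)⁻¹ * c * w D, ?_⟩)
  have e1 : c * (f D).1.out * c⁻¹ = (f D).1.out := by
    rw [Subgroup.mem_centralizer_singleton_iff.mp hcm, mul_inv_cancel_right]
  have hD := (piP_spec ({a} : Set ℕ) D.1.out).1
  have hE := (piP_spec ({a} : Set ℕ) E.1.out).1
  calc (w E)⁻¹ * c * w D * D.1.out * ((w E)⁻¹ * c * w D)⁻¹
      = (w E)⁻¹ * c * w D * (piP ({a} : Set ℕ) D.1.out * coP ({a} : Set ℕ) D.1.out) *
          ((w E)⁻¹ * c * w D)⁻¹ := by rw [hD]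
    _ = (w E)⁻¹ * (c * (w D * piP ({a} : Set ℕ) D.1.out * (w D)⁻¹) * c⁻¹ *
          (c * (w D * coP ({a} : Set ℕ) D.1.out * (w D)⁻¹) * c⁻¹)) * w E := by group
    _ = (w E)⁻¹ * ((f D).1.out * (w E * coP ({a} : Set ℕ) E.1.out * (w E)⁻¹)) * w E := by
          rw [hce, hw D, e1]
    _ = (w E)⁻¹ * ((w E * piP ({a} : Set ℕ) E.1.out * (w E)⁻¹) *
          (w E * coP ({a} : Set ℕ) E.1.out * (w E)⁻¹)) * w E := by rw [hy, ← hw E]
    _ = piP ({a} : Set ℕ) E.1.out * coP ({a} : Set ℕ) E.1.out := by group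
    _ = E.1.out := hE

/-- A Sylow subgroup meets every class of `a`-elements. -/
theorem exists_rep_sylow [Finite G] {a : ℕ} [Fact a.Prime] (A : Sylow a G) {x : G}
    (hx : IsPiEl ({a} : Set ℕ) x) :
    ∃ y ∈ (A : Subgroup G), ConjClasses.mk y = ConjClasses.mk x := by
  have hp : IsPGroup a (Subgroup.zpowers x) := by
    refine IsPGroup.of_card (n := (orderOf x).factorization a) ?_
    rw [Nat.card_zpowers]
    refine Nat.eq_of_factorization_eq (orderOf_pos x).ne'
      (Nat.pow_pos (Fact.out : a.Prime).pos).ne' fun q => ?_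
    rw [(Fact.out : a.Prime).factorization_pow, Finsupp.single_apply]
    by_cases hq : q.Prime
    · split_ifs with h
      · rw [h]
      · rw [Nat.factorization_eq_zero_of_not_dvd]
        exact fun hd => h (hx q hq hd).symm
    · rw [Nat.factorization_eq_zero_of_not_prime _ hq]
      split_ifs with h
      · exact absurd (h ▸ Fact.out) hq
      · rfl
  obtain ⟨k, hk⟩ := CfsgLib.Transfer.exists_map_conj_le_sylow hp A
  exact ⟨k * x * k⁻¹, hk (Subgroup.mem_map_of_mem _ (Subgroup.mem_zpowers x)),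
    (ConjClasses.mk_eq_mk_iff_isConj.mpr (isConj_iff.mpr ⟨k, rfl⟩)).symm⟩

theorem kS_singleton_le [Finite G] {a : ℕ} [Fact a.Prime] (A : Sylow a G) :
    Nat.card (PiClasses ({a} : Set ℕ) G) ≤ Nat.card (A : Subgroup G) := by
  have h : ∀ C : PiClasses ({a} : Set ℕ) G, ∃ y : (A : Subgroup G), ConjClasses.mk (y : G) = C.1 :=
    fun C => by
      obtain ⟨y, hy, e⟩ := exists_rep_sylow A (out_spec C)
      exact ⟨⟨y, hy⟩, e.trans (Quotient.out_eq _)⟩
  choose y hy using h
  exact Nat.card_le_card_of_injective y fun C D e => Subtype.ext (by rw [← hy C, ← hy D, e])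

/-- At most as many classes as the part of the order. -/
theorem kS_le_mS : ∀ (n : ℕ) (σ : Finset ℕ), σ.card = n → (∀ r ∈ σ, r.Prime) →
    ∀ (G : Type u) [Group G] [Finite G], kS σ G ≤ mS σ G := by
  classical
  intro n
  induction n with
  | zero =>
    intro σ hn _ G _ _
    rw [Finset.card_eq_zero.mp hn]
    exact kS_empty_le.trans (by simp [mS])
  | succ n ih =>
    intro σ hn hσ G _ _
    obtain ⟨a, ha⟩ := Finset.card_pos.mp (by omega : 0 < σ.card)
    haveI : Fact a.Prime := ⟨hσ a ha⟩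
    haveI := Fintype.ofFinite (PiClasses ({a} : Set ℕ) G)
    have hτ : ∀ r ∈ σ.erase a, r.Prime := fun r hr => hσ r (Finset.mem_of_mem_erase hr)
    obtain ⟨A⟩ := (inferInstance : Nonempty (Sylow a G))
    calc kS σ G ≤ ∑ C : PiClasses ({a} : Set ℕ) G,
          kS (σ.erase a) (Subgroup.centralizer ({C.1.out} : Set G)) := kS_le_sum a
      _ ≤ ∑ _C : PiClasses ({a} : Set ℕ) G, mS (σ.erase a) G :=
          Finset.sum_le_sum fun C _ => (ih _ (by rw [Finset.card_erase_of_mem ha]; omega) hτ _).trans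
            (mS_le hτ _)
      _ ≤ Nat.card (A : Subgroup G) * mS (σ.erase a) G := by
          rw [Finset.sum_const, Finset.card_univ, smul_eq_mul, ← Nat.card_eq_fintype_card]
          exact Nat.mul_le_mul_right _ (kS_singleton_le A)
      _ = mS σ G := by
          rw [Sylow.card_eq_multiplicity, mS, mS, ← Finset.mul_prod_erase σ _ ha]

/-- Counting classes with at least `n` members in a set, allowing exceptions. -/
theorem count_classes [DecidableEq (ConjClasses G)] (𝒞 : Finset (ConjClasses G)) (T F : Finset G)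
    {n : ℕ} (hn : 1 ≤ n) (hFT : F ⊆ T)
    (h : ∀ C ∈ 𝒞, (∃ x ∈ F, ConjClasses.mk x = C) ∨
      n ≤ (T.filter fun x => ConjClasses.mk x = C).card) :
    n * 𝒞.card ≤ T.card + (n - 1) * F.card := by
  classical
  have key : ∀ C ∈ 𝒞, n ≤ (T.filter fun x => ConjClasses.mk x = C).card +
      (n - 1) * (F.filter fun x => ConjClasses.mk x = C).card := by
    intro C hC
    rcases h C hC with ⟨x, hx, hxC⟩ | h'
    · have h1 : 0 < (F.filter fun x => ConjClasses.mk x = C).card :=
        Finset.card_pos.mpr ⟨x, Finset.mem_filter.mpr ⟨hx, hxC⟩⟩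
      have h2 : 0 < (T.filter fun x => ConjClasses.mk x = C).card :=
        Finset.card_pos.mpr ⟨x, Finset.mem_filter.mpr ⟨hFT hx, hxC⟩⟩
      have h3 := Nat.mul_le_mul_left (n - 1) h1
      omega
    · omega
  have hsum : ∀ S : Finset G,
      ∑ C ∈ 𝒞, (S.filter fun x => ConjClasses.mk x = C).card ≤ S.card := fun S => by
    rw [← Finset.card_biUnion]
    · exact Finset.card_le_card (Finset.biUnion_subset.mpr fun C _ => Finset.filter_subset _ _)
    · intro C _ D _ hCD
      simp only [Function.onFun]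
      rw [Finset.disjoint_left]
      intro x hx hx'
      exact hCD ((Finset.mem_filter.mp hx).2.symm.trans (Finset.mem_filter.mp hx').2)
  calc n * 𝒞.card = ∑ _C ∈ 𝒞, n := by rw [Finset.sum_const, smul_eq_mul, mul_comm]
    _ ≤ ∑ C ∈ 𝒞, ((T.filter fun x => ConjClasses.mk x = C).card +
          (n - 1) * (F.filter fun x => ConjClasses.mk x = C).card) := Finset.sum_le_sum key
    _ ≤ T.card + (n - 1) * F.card := by
        rw [Finset.sum_add_distrib, ← Finset.mul_sum]
        exact Nat.add_le_add (hsum T) (Nat.mul_le_mul_left _ (hsum F))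

/-- An element of a nilpotent Hall subgroup's primes is conjugate into it. -/
theorem exists_conj_mem : ∀ (n : ℕ) (G : Type u) [Group G] [Finite G] (x : G), orderOf x = n →
    ∀ K : Subgroup G, Group.IsNilpotent K → (Nat.card K).Coprime K.index →
      (∀ q : ℕ, q.Prime → q ∣ orderOf x → q ∣ Nat.card K) → ∃ c : G, c * x * c⁻¹ ∈ K := by
  intro n
  induction n using Nat.strong_induction_on with
  | _ n IH =>
  intro G _ _ x hn K hK hcop hx
  rcases eq_or_ne n 1 with h1 | h1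
  · refine ⟨1, ?_⟩
    rw [orderOf_eq_one_iff.mp (hn.trans h1)]
    simpa using K.one_mem
  obtain ⟨r, hr, hrn⟩ := Nat.exists_prime_and_dvd h1
  haveI : Fact r.Prime := ⟨hr⟩
  haveI := hK
  obtain ⟨hxy, hp, hc, hpe, hce⟩ := piP_spec ({r} : Set ℕ) x
  obtain ⟨R0⟩ := (inferInstance : Nonempty (Sylow r K))
  obtain ⟨R, hR⟩ := CfsgLib.Transfer.exists_sylow_le_of_hall hcop (hx r hr (hn ▸ hrn)) R0
  obtain ⟨y, hy, hyc⟩ := exists_rep_sylow R hpe
  obtain ⟨k, hk⟩ := isConj_iff.mp (ConjClasses.mk_eq_mk_iff_isConj.mp hyc.symm)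
  set z := k * coP ({r} : Set ℕ) x * k⁻¹ with hz
  have hzo : orderOf z = orderOf (coP ({r} : Set ℕ) x) := by
    rw [hz, ← MulAut.conj_apply, MulEquiv.orderOf_eq]
  rw [hR] at hy
  obtain ⟨⟨y, hyK⟩, hyR, rfl⟩ := hy
  simp only [Subgroup.coe_subtype] at hk
  set C := Subgroup.centralizer ({y} : Set G) with hC
  have hzC : z ∈ C := by
    rw [hC, Subgroup.mem_centralizer_singleton_iff, ← hk, hz]
    obtain ⟨i, hi⟩ := Subgroup.mem_zpowers_iff.mp hp
    obtain ⟨j, hj⟩ := Subgroup.mem_zpowers_iff.mp hc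
    rw [← hi, ← hj]
    have e : x ^ j * x ^ i = x ^ i * x ^ j := ((Commute.refl x).zpow_zpow j i).eq
    calc k * x ^ j * k⁻¹ * (k * x ^ i * k⁻¹) = k * (x ^ j * x ^ i) * k⁻¹ := by group
      _ = k * (x ^ i * x ^ j) * k⁻¹ := by rw [e]
      _ = _ := by group
  -- the complement of the Sylow subgroup in the nilpotent group
  haveI hRn : (R0 : Subgroup K).Normal := CfsgLib.Transfer.sylow_normal_of_isNilpotent R0
  obtain ⟨K1, hK1⟩ := Subgroup.exists_right_complement'_of_coprime (N := (R0 : Subgroup K))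
    R0.card_coprime_index
  have hK1card : Nat.card (R0 : Subgroup K) * Nat.card K1 = Nat.card K := hK1.card_mul
  have hK1r : ¬ r ∣ Nat.card K1 := by
    rw [← Subgroup.IsComplement'.index_eq_card hK1.symm]
    exact R0.not_dvd_index
  have hcomm : ∀ u ∈ (R0 : Subgroup K), ∀ v ∈ K1, Commute u v := by
    intro u hu v hv
    obtain ⟨i, hi⟩ := IsPGroup.iff_orderOf.mp R0.2 ⟨u, hu⟩
    rw [← Subgroup.orderOf_coe] at hi
    refine CfsgLib.Hall.commute_of_coprime_orderOf (p := r) (j := i) (dvd_of_eq hi) ?_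
    refine (hr.coprime_iff_not_dvd.mpr fun hd => hK1r ?_).symm
    exact hd.trans ((Subgroup.orderOf_coe (⟨v, hv⟩ : K1)).symm ▸ orderOf_dvd_natCard _)
  set L := K1.map K.subtype with hL
  have hLC : L ≤ C := by
    rintro _ ⟨v, hv, rfl⟩
    rw [hC, Subgroup.mem_centralizer_singleton_iff]
    exact congrArg Subtype.val (hcomm _ hyR v hv).eq.symm
  have hLK : L ≤ K := Subgroup.map_subtype_le _
  have hLcard : Nat.card L = Nat.card K1 :=
    (Nat.card_congr (K1.equivMapOfInjective _ K.subtype_injective).toEquiv).symm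
  set L' := L.subgroupOf C with hL'
  have hL'card : Nat.card L' = Nat.card K1 :=
    (Nat.card_congr (Subgroup.subgroupOfEquivOfLe hLC).toEquiv).trans hLcard
  have hL'nil : Group.IsNilpotent L' := by
    refine (Group.isNilpotent_congr (Subgroup.subgroupOfEquivOfLe hLC)).mpr ?_
    exact (Group.isNilpotent_congr (K1.equivMapOfInjective _ K.subtype_injective)).mp inferInstance
  have hL'cop : (Nat.card L').Coprime L'.index := by
    rw [hL'card]
    refine Nat.Coprime.coprime_dvd_right (Subgroup.relIndex_dvd_index_of_le hLC) ?_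
    rw [hL, Subgroup.index_map_subtype]
    refine Nat.Coprime.mul_right ?_ (hcop.coprime_dvd_left (Subgroup.card_subgroup_dvd_card K1))
    rw [Subgroup.IsComplement'.index_eq_card hK1, mul_comm] at *
    exact Nat.coprime_of_dvd fun q hq h1 h2 => hK1r (by
      obtain ⟨i, hi⟩ := IsPGroup.iff_card.mp R0.2
      rw [hi] at h2
      exact (Nat.prime_dvd_prime_iff_eq hq hr).mp (hq.dvd_of_dvd_pow h2) ▸ h1)
  have hlt : orderOf (⟨z, hzC⟩ : C) < n := by
    rw [← Subgroup.orderOf_coe]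
    show orderOf z < n
    rw [hzo, ← hn]
    refine lt_of_le_of_ne (Nat.le_of_dvd (orderOf_pos x) (orderOf_dvd_of_mem_zpowers hc)) fun e => ?_
    exact hce r hr (by rw [e, hn]; exact hrn) rfl
  obtain ⟨c, hcL⟩ := IH _ hlt C ⟨z, hzC⟩ rfl L' hL'nil hL'cop fun q hq hd => by
    rw [← Subgroup.orderOf_coe] at hd
    change q ∣ orderOf z at hd
    rw [hzo] at hd
    have hqr : q ≠ r := fun e => hce q hq hd e
    have hqK := hx q hq (hd.trans (orderOf_dvd_of_mem_zpowers hc))
    rw [← hK1card] at hqK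
    rw [hL'card]
    refine (hq.dvd_mul.mp hqK).resolve_left fun h => hqr ?_
    obtain ⟨i, hi⟩ := IsPGroup.iff_card.mp R0.2
    rw [hi] at h
    exact (Nat.prime_dvd_prime_iff_eq hq hr).mp (hq.dvd_of_dvd_pow h)
  refine ⟨(c : G) * k, ?_⟩
  have hcy : (c : G) * y * (c : G)⁻¹ = y := by
    rw [Subgroup.mem_centralizer_singleton_iff.mp c.2, mul_inv_cancel_right]
  have e : (c : G) * k * x * ((c : G) * k)⁻¹ = y * ((c : G) * z * (c : G)⁻¹) := by
    conv_lhs => rw [← hxy]
    calc (c : G) * k * (piP ({r} : Set ℕ) x * coP ({r} : Set ℕ) x) * ((c : G) * k)⁻¹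
        = (c : G) * (k * piP ({r} : Set ℕ) x * k⁻¹) * (c : G)⁻¹ *
            ((c : G) * (k * coP ({r} : Set ℕ) x * k⁻¹) * (c : G)⁻¹) := by group
      _ = _ := by rw [hk, hcy, hz]
  rw [e]
  exact K.mul_mem hyK (hLK hcL)

theorem exists_conj_mem_of_piEl [Finite G] {σ : Finset ℕ} (hσ : ∀ r ∈ σ, r.Prime) {K : Subgroup G}
    (hK : Group.IsNilpotent K) (hcard : Nat.card K = mS σ G) {x : G}
    (hx : IsPiEl (↑σ : Set ℕ) x) : ∃ c : G, c * x * c⁻¹ ∈ K := by
  refine exists_conj_mem _ G x rfl K hK (mS_coprime hσ hcard) fun q hq hd => ?_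
  have hqσ : q ∈ σ := Finset.mem_coe.mp (hx q hq hd)
  rw [hcard, hq.dvd_iff_one_le_factorization (mS_pos hσ).ne', mS_factorization hσ, if_pos hqσ]
  exact (hq.dvd_iff_one_le_factorization Nat.card_pos.ne').mp (hd.trans (orderOf_dvd_natCard x))

/-- The classes all meet a nilpotent Hall subgroup; exceptions are counted in `F`. -/
theorem kS_le_of_hall [Finite G] {σ : Finset ℕ} (hσ : ∀ r ∈ σ, r.Prime) {K : Subgroup G}
    (hK : Group.IsNilpotent K) (hcard : Nat.card K = mS σ G) {n : ℕ} (hn : 1 ≤ n)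
    (F : Subgroup G) (hF : F ≤ K)
    (hmove : ∀ x ∈ K, x ∉ F → ∃ T : Finset G, n ≤ T.card ∧
      ∀ z ∈ T, z ∈ K ∧ ConjClasses.mk z = ConjClasses.mk x) :
    n * kS σ G ≤ Nat.card K + (n - 1) * Nat.card F := by
  classical
  haveI := Fintype.ofFinite G
  haveI := Fintype.ofFinite (PiClasses (↑σ : Set ℕ) G)
  set 𝒞 : Finset (ConjClasses G) :=
    (Finset.univ : Finset (PiClasses (↑σ : Set ℕ) G)).image Subtype.val with h𝒞
  have hk : kS σ G = 𝒞.card := by
    rw [h𝒞, kS, Nat.card_eq_fintype_card, ← Finset.card_univ]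
    exact (Finset.card_image_of_injective _ Subtype.val_injective).symm
  rw [hk, Nat.card_eq_fintype_card, Nat.card_eq_fintype_card, Fintype.card_subtype,
    Fintype.card_subtype]
  refine count_classes 𝒞 _ _ hn (fun x hx => by
    simp only [Finset.mem_filter, Finset.mem_univ, true_and] at hx ⊢; exact hF hx) fun C hC => ?_
  obtain ⟨D, -, rfl⟩ := Finset.mem_image.mp hC
  obtain ⟨c, hc⟩ := exists_conj_mem_of_piEl hσ hK hcard (out_spec D)
  have hcl : ConjClasses.mk (c * D.1.out * c⁻¹) = D.1 :=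
    (ConjClasses.mk_eq_mk_iff_isConj.mpr (isConj_iff.mpr ⟨c⁻¹, by group⟩)).trans (Quotient.out_eq _)
  by_cases hxF : c * D.1.out * c⁻¹ ∈ F
  · exact Or.inl ⟨_, by simpa using hxF, hcl⟩
  · obtain ⟨T, hT, hTz⟩ := hmove _ hc hxF
    refine Or.inr (hT.trans (Finset.card_le_card fun z hz => ?_))
    obtain ⟨h1, h2⟩ := hTz z hz
    simp only [Finset.mem_filter, Finset.mem_univ, true_and]
    exact ⟨h1, h2.trans hcl⟩

end CfsgLib.ManyPiClasses
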