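import Mathlib
import Cfsg.Agent.Lib.ManyPiClasses.Count
import Cfsg.Agent.Lib.Transfer.Sylow

/-!
Auxiliary bounds and lifting lemmas for groups with many classes of `σ`-elements.
-/

set_option autoImplicit false
set_option linter.style.haveILetI false

namespace CfsgLib.ManyPiClasses

open CfsgLib.ClassPi

universe u

variable {G : Type u} [Group G]

theorem kS_le_of_equiv [Finite G] {H : Type u} [Group H] [Finite H] (σ : Finset ℕ) (e : G ≃* H) :
    kS σ G ≤ kS σ H := by
  have h : ∀ C : PiClasses (↑σ : Set ℕ) G, IsPiEl (↑σ : Set ℕ) (e C.1.out) := fun C q hq hd =>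
    out_spec C q hq (by rwa [MulEquiv.orderOf_eq] at hd)
  refine Nat.card_le_card_of_injective (fun C => mkClass (h C)) fun C D hCD => Subtype.ext ?_
  obtain ⟨c, hc⟩ := isConj_iff.mp (ConjClasses.mk_eq_mk_iff_isConj.mp (congrArg Subtype.val hCD))
  rw [← Quotient.out_eq C.1, ← Quotient.out_eq D.1]
  refine ConjClasses.mk_eq_mk_iff_isConj.mpr (isConj_iff.mpr ⟨e.symm c, e.injective ?_⟩)
  simpa using hc

theorem kS_congr [Finite G] {H : Type u} [Group H] [Finite H] (σ : Finset ℕ) (e : G ≃* H) :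
    kS σ G = kS σ H :=
  le_antisymm (kS_le_of_equiv σ e) (kS_le_of_equiv σ e.symm)

/-- The number of classes of `σ`-elements in the centralizer of an element. -/
noncomputable def cK (σ : Finset ℕ) (y : G) : ℕ :=
  kS σ (Subgroup.centralizer ({y} : Set G))

theorem map_conj_centralizer (c y : G) :
    (Subgroup.centralizer ({y} : Set G)).map (MulAut.conj c).toMonoidHom =
      Subgroup.centralizer ({c * y * c⁻¹} : Set G) := by
  ext x
  simp only [Subgroup.mem_map, Subgroup.mem_centralizer_singleton_iff, MulEquiv.coe_toMonoidHom,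
    MulAut.conj_apply]
  constructor
  · rintro ⟨z, hz, rfl⟩
    calc c * z * c⁻¹ * (c * y * c⁻¹) = c * (z * y) * c⁻¹ := by group
      _ = c * (y * z) * c⁻¹ := by rw [hz]
      _ = _ := by group
  · intro h
    refine ⟨c⁻¹ * x * c, ?_, by group⟩
    calc c⁻¹ * x * c * y = c⁻¹ * (x * (c * y * c⁻¹)) * c := by group
      _ = c⁻¹ * (c * y * c⁻¹ * x) * c := by rw [h]
      _ = _ := by group

theorem cK_eq_of_mk_eq [Finite G] (σ : Finset ℕ) {y y' : G}
    (h : ConjClasses.mk y = ConjClasses.mk y') : cK σ y = cK σ y' := by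
  obtain ⟨c, rfl⟩ := isConj_iff.mp (ConjClasses.mk_eq_mk_iff_isConj.mp h)
  refine kS_congr σ ((Subgroup.equivMapOfInjective _ (MulAut.conj c).toMonoidHom
    (MulAut.conj c).injective).trans (MulEquiv.subgroupCongr (map_conj_centralizer c y)))

theorem cK_out [Finite G] (σ : Finset ℕ) (y : G) :
    cK σ (ConjClasses.mk y).out = cK σ y :=
  cK_eq_of_mk_eq σ (Quotient.out_eq _)

theorem mS_eq_of_le [Finite G] {σ : Finset ℕ} (hσ : ∀ r ∈ σ, r.Prime) {K C : Subgroup G}
    (hKC : K ≤ C) (hK : Nat.card K = mS σ G) : mS σ C = mS σ G := by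
  refine Nat.dvd_antisymm (mS_dvd_mS hσ C) ?_
  refine (Nat.factorization_le_iff_dvd (mS_pos hσ).ne' (mS_pos hσ).ne').mp fun q => ?_
  rw [mS_factorization hσ, mS_factorization hσ]
  split_ifs with h
  · have h1 := (Nat.factorization_le_iff_dvd Nat.card_pos.ne' Nat.card_pos.ne').mpr
      (Subgroup.card_dvd_of_le hKC) q
    rwa [hK, mS_factorization hσ, if_pos h] at h1
  · exact le_rfl

/-- A proper subgroup of a Hall subgroup is smaller by a factor at least the least prime. -/
theorem mul_card_le_of_ne [Finite G] {σ : Finset ℕ} (hσ : ∀ r ∈ σ, r.Prime) {b : ℕ}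
    (hb : ∀ r ∈ σ, b ≤ r) {K F : Subgroup G} (hFK : F ≤ K) (hK : Nat.card K = mS σ G)
    (hne : F ≠ K) : b * Nat.card F ≤ mS σ G := by
  obtain ⟨c, hc⟩ := Subgroup.card_dvd_of_le hFK
  have hc1 : c ≠ 1 := fun h => hne (Subgroup.eq_of_le_of_card_ge hFK (by rw [hc, h, mul_one]))
  obtain ⟨q, hq, hqc⟩ := Nat.exists_prime_and_dvd hc1
  have hc0 : c ≠ 0 := fun h => Nat.card_pos.ne' (show Nat.card K = 0 by rw [hc, h, mul_zero])
  have hqσ : q ∈ σ := prime_of_dvd_mS hσ hq (hK ▸ hqc.trans (Dvd.intro_left _ hc.symm))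
  calc b * Nat.card F ≤ c * Nat.card F :=
        Nat.mul_le_mul_right _ ((hb q hqσ).trans (Nat.le_of_dvd (Nat.pos_of_ne_zero hc0) hqc))
    _ = mS σ G := by rw [← hK, hc, mul_comm]

/-- Nilpotent Hall subgroups inside a subgroup are conjugate there. -/
theorem exists_conj_in [Finite G] {σ : Finset ℕ} (hσ : ∀ r ∈ σ, r.Prime) {X K K' : Subgroup G}
    (hKX : K ≤ X) (hK'X : K' ≤ X) (hK : Group.IsNilpotent K) (hK' : Group.IsNilpotent K')
    (hc : Nat.card K = mS σ G) (hc' : Nat.card K' = mS σ G) :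
    ∃ x ∈ X, K.map (MulAut.conj x).toMonoidHom = K' := by
  haveI : Group.IsNilpotent (K.subgroupOf X) :=
    (Group.isNilpotent_congr (Subgroup.subgroupOfEquivOfLe hKX)).mpr hK
  haveI : Group.IsNilpotent (K'.subgroupOf X) :=
    (Group.isNilpotent_congr (Subgroup.subgroupOfEquivOfLe hK'X)).mpr hK'
  obtain ⟨x, hx⟩ := CfsgLib.Transfer.exists_map_conj_eq_of_nilpotent_hall (H := K.subgroupOf X)
    (K := K'.subgroupOf X)
    (by rw [Nat.card_congr (Subgroup.subgroupOfEquivOfLe hKX).toEquiv,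
      Nat.card_congr (Subgroup.subgroupOfEquivOfLe hK'X).toEquiv, hc, hc'])
    (by
      rw [Nat.card_congr (Subgroup.subgroupOfEquivOfLe hKX).toEquiv]
      exact (mS_coprime hσ hc).coprime_dvd_right (Subgroup.relIndex_dvd_index_of_le hKX))
  refine ⟨x, x.2, ?_⟩
  have h2 := congrArg (Subgroup.map X.subtype) hx
  have e : X.subtype.comp (MulAut.conj x).toMonoidHom =
      ((MulAut.conj (x : G)).toMonoidHom).comp X.subtype := rfl
  rwa [Subgroup.map_map, e, ← Subgroup.map_map, Subgroup.map_subgroupOf_eq_of_le hKX,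
    Subgroup.map_subgroupOf_eq_of_le hK'X] at h2

theorem mem_normalizer_of_map_conj {K : Subgroup G} {n : G}
    (h : K.map (MulAut.conj n).toMonoidHom = K) : n ∈ Subgroup.normalizer (K : Set G) :=
  Subgroup.mem_normalizer_iff_map_conj_eq.mpr h

/-- The counting bound inside a subgroup containing a nilpotent Hall subgroup. -/
theorem kS_sub_le [Finite G] {σ : Finset ℕ} (hσ : ∀ r ∈ σ, r.Prime) {K C : Subgroup G}
    (hKC : K ≤ C) (hK : Group.IsNilpotent K) (hcard : Nat.card K = mS σ G) {n : ℕ} (hn : 1 ≤ n)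
    (F : Subgroup G) (hF : F ≤ K)
    (hmove : ∀ x ∈ K, x ∉ F → ∃ T : Finset G, n ≤ T.card ∧
      ∀ z ∈ T, z ∈ K ∧ ∃ c ∈ C, c * x * c⁻¹ = z) :
    n * kS σ C ≤ mS σ G + (n - 1) * Nat.card F := by
  classical
  have h := kS_le_of_hall (G := C) hσ (K := K.subgroupOf C)
    ((Group.isNilpotent_congr (Subgroup.subgroupOfEquivOfLe hKC)).mpr hK)
    (by rw [Nat.card_congr (Subgroup.subgroupOfEquivOfLe hKC).toEquiv, hcard,
      mS_eq_of_le hσ hKC hcard])
    hn (F.subgroupOf C) (Subgroup.comap_mono hF) fun x hx hxF => by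
      obtain ⟨T, hT, hTz⟩ := hmove x hx hxF
      refine ⟨T.subtype (· ∈ C), ?_, fun z hz => ?_⟩
      · rwa [Finset.card_subtype, Finset.filter_true_of_mem fun z hz => hKC (hTz z hz).1]
      · obtain ⟨h1, c, hc, hcz⟩ := hTz z (Finset.mem_subtype.mp hz)
        refine ⟨h1, (ConjClasses.mk_eq_mk_iff_isConj.mpr (isConj_iff.mpr ⟨⟨c, hc⟩, ?_⟩)).symm⟩
        exact Subtype.ext hcz
  rwa [Nat.card_congr (Subgroup.subgroupOfEquivOfLe hKC).toEquiv, hcard,
    Nat.card_congr (Subgroup.subgroupOfEquivOfLe (hF.trans hKC)).toEquiv] at h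

/-- An element of prime power order moving a point moves it through at least `a` points. -/
theorem conj_orbit [Finite G] {a : ℕ} (ha : a.Prime) {u x : G} (hu : IsPiEl ({a} : Set ℕ) u)
    (hx : u * x ≠ x * u) :
    ∃ T : Finset G, a ≤ T.card ∧ ∀ z ∈ T, ∃ j : ℕ, u ^ j * x * (u ^ j)⁻¹ = z := by
  classical
  set f : G → G := fun z => u * z * u⁻¹ with hf
  have hit : ∀ (j : ℕ) (z : G), f^[j] z = u ^ j * z * (u ^ j)⁻¹ := by
    intro j
    induction j with
    | zero => intro z; simp
    | succ j ih =>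
      intro z
      rw [Function.iterate_succ_apply', ih, pow_succ', hf]
      group
  have hper : Function.IsPeriodicPt f (orderOf u) x := by
    show f^[orderOf u] x = x
    rw [hit, pow_orderOf_eq_one]; simp
  have ht1 : Function.minimalPeriod f x ≠ 1 := fun h1 => by
    have := Function.isPeriodicPt_minimalPeriod f x
    rw [h1] at this
    exact hx (by
      have h2 : u * x * u⁻¹ = x := this
      calc u * x = u * x * u⁻¹ * u := by group
        _ = x * u := by rw [h2])
  obtain ⟨q, hq, hqt⟩ := Nat.exists_prime_and_dvd ht1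
  have hqa : q = a := hu q hq (hqt.trans hper.minimalPeriod_dvd)
  have ht : a ≤ Function.minimalPeriod f x :=
    hqa ▸ Nat.le_of_dvd (hper.minimalPeriod_pos (orderOf_pos u)) hqt
  refine ⟨(Finset.range a).image fun j => f^[j] x, ?_, fun z hz => ?_⟩
  · rw [Finset.card_image_of_injOn, Finset.card_range]
    refine Function.iterate_injOn_Iio_minimalPeriod.mono fun j hj => ?_
    exact lt_of_lt_of_le (Finset.mem_range.mp hj) ht
  · obtain ⟨j, -, rfl⟩ := Finset.mem_image.mp hz
    exact ⟨j, (hit j x).symm⟩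

/-- A bound from an element of `C` normalizing but not centralizing the Hall subgroup. -/
theorem kS_sub_le_moved [Finite G] {σ : Finset ℕ} (hσ : ∀ r ∈ σ, r.Prime) {b : ℕ}
    (hb : ∀ r ∈ σ, b ≤ r) {K C : Subgroup G}
    (hKC : K ≤ C) (hK : Group.IsNilpotent K) (hcard : Nat.card K = mS σ G) {n : ℕ} (hn : 1 ≤ n)
    {u : G} (huC : u ∈ C) (huN : u ∈ Subgroup.normalizer (K : Set G))
    (hucK : u ∉ Subgroup.centralizer (K : Set G))
    (horb : ∀ x ∈ K, u * x ≠ x * u →
      ∃ T : Finset G, n ≤ T.card ∧ ∀ z ∈ T, ∃ j : ℕ, u ^ j * x * (u ^ j)⁻¹ = z) :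
    b * (n * kS σ C) ≤ (b + (n - 1)) * mS σ G := by
  set F := K ⊓ Subgroup.centralizer ({u} : Set G) with hF
  have hne : F ≠ K := fun h => hucK <| Subgroup.mem_centralizer_iff.mpr fun x hx => by
    exact Subgroup.mem_centralizer_singleton_iff.mp (inf_eq_left.mp h hx)
  have h1 := kS_sub_le hσ hKC hK hcard hn F inf_le_left fun x hx hxF => by
    have hmoved : u * x ≠ x * u := fun e => hxF
      ⟨hx, Subgroup.mem_centralizer_singleton_iff.mpr e.symm⟩
    obtain ⟨T, hT, hTz⟩ := horb x hx hmoved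
    refine ⟨T, hT, fun z hz => ?_⟩
    obtain ⟨j, rfl⟩ := hTz z hz
    exact ⟨(Subgroup.mem_normalizer_iff.mp (Subgroup.pow_mem _ huN j) x).mp hx,
      u ^ j, Subgroup.pow_mem _ huC j, rfl⟩
  have h2 := mul_card_le_of_ne hσ hb inf_le_left hcard hne
  have h3 := Nat.mul_le_mul_left b h1
  have h4 := Nat.mul_le_mul_left (n - 1) h2
  rw [add_mul, Nat.mul_add] at *
  calc b * (n * kS σ C) ≤ b * mS σ G + b * ((n - 1) * Nat.card F) := h3
    _ ≤ _ := Nat.add_le_add_left (by rw [Nat.mul_left_comm]; exact h4) _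

/-- Elements of order prime to `a` lie in every normal subgroup of `a`-power index. -/
theorem mem_of_coprime_index {M : Subgroup G} [M.Normal] {x : G}
    (h : (orderOf x).Coprime M.index) : x ∈ M := by
  rw [← QuotientGroup.eq_one_iff, ← orderOf_eq_one_iff]
  exact Nat.eq_one_of_dvd_coprimes h (orderOf_map_dvd (QuotientGroup.mk' M) x) (orderOf_dvd_natCard _)


/-- A nilpotent subgroup from two commuting ones of coprime orders. -/
theorem exists_commuting_product [Finite G] {A K : Subgroup G}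
    (hA : Group.IsNilpotent A) (hK : Group.IsNilpotent K)
    (hcop : (Nat.card A).Coprime (Nat.card K)) (hcomm : A ≤ Subgroup.centralizer (K : Set G)) :
    ∃ P : Subgroup G, Nat.card P = Nat.card A * Nat.card K ∧ Group.IsNilpotent P := by
  have hc : ∀ (x : A) (y : K), Commute (A.subtype x) (K.subtype y) := fun x y =>
    (Subgroup.mem_centralizer_iff.mp (hcomm x.2) y y.2).symm
  set φ := MonoidHom.noncommCoprod A.subtype K.subtype hc with hφ
  have hinj : Function.Injective φ := by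
    rw [hφ, MonoidHom.noncommCoprod_injective, Subgroup.range_subtype, Subgroup.range_subtype]
    refine ⟨A.subtype_injective, K.subtype_injective, ?_⟩
    exact disjoint_iff.mpr (Subgroup.inf_eq_bot_of_coprime hcop)
  refine ⟨φ.range, ?_, ?_⟩
  · rw [← Nat.card_prod]
    exact (Nat.card_congr (MonoidHom.ofInjective hinj).toEquiv).symm
  · exact (Group.isNilpotent_congr (MonoidHom.ofInjective hinj)).mp inferInstance

/-- An automorphism of a group of order prime to `a (a - 1)` fixing a subgroup of index `a`. -/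
theorem commute_of_fix_index_prime [Finite G] {a : ℕ} (ha : a.Prime) {A A0 : Subgroup G}
    (hA : IsPGroup a A) (hle : A0 ≤ A) (hidx : Nat.card A = a * Nat.card A0) {l : G}
    (hl : l ∈ Subgroup.normalizer (A : Set G)) (hl0 : ∀ z ∈ A0, l * z = z * l)
    (hla : (orderOf l).Coprime a) (hla1 : (orderOf l).Coprime (a - 1)) :
    ∀ y ∈ A, l * y = y * l := by
  haveI : Fact a.Prime := ⟨ha⟩
  haveI hnorm : (A0.subgroupOf A).Normal := by
    refine Subgroup.normal_of_index_eq_minFac_card ?_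
    have h1 := (A0.subgroupOf A).card_mul_index
    rw [Nat.card_congr (Subgroup.subgroupOfEquivOfLe hle).toEquiv, hidx, mul_comm] at h1
    have h2 : (A0.subgroupOf A).index = a := Nat.eq_of_mul_eq_mul_right Nat.card_pos h1
    obtain ⟨e, he⟩ := IsPGroup.iff_card.mp hA
    rw [h2, he, ha.pow_minFac]
    rintro rfl
    rw [pow_zero] at he
    have := ha.two_le
    have := Nat.le_of_dvd (by omega) (Dvd.intro _ (he ▸ hidx).symm)
    omega
  set q := QuotientGroup.mk' (A0.subgroupOf A) with hq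
  have hcardQ : Nat.card (A ⧸ A0.subgroupOf A) = a := by
    have h1 := (A0.subgroupOf A).card_mul_index
    rw [Nat.card_congr (Subgroup.subgroupOfEquivOfLe hle).toEquiv, hidx, mul_comm] at h1
    exact Nat.eq_of_mul_eq_mul_right Nat.card_pos h1
  have hker : ∀ w : A, q w = 1 ↔ (w : G) ∈ A0 := fun w =>
    (QuotientGroup.eq_one_iff w).trans Subgroup.mem_subgroupOf
  intro y hy
  by_cases hy0 : y ∈ A0
  · exact hl0 y hy0
  set ψ : A →* A :=
    { toFun := fun w => ⟨l * w * l⁻¹, (Subgroup.mem_normalizer_iff.mp hl w).mp w.2⟩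
      map_one' := Subtype.ext (by simp)
      map_mul' := fun v w => Subtype.ext (by simp [mul_assoc]) } with hψ
  set x : A := ⟨y, hy⟩ with hxdef
  have hqx : q x ≠ 1 := fun h => hy0 ((hker x).mp h)
  have hox : orderOf (q x) = a :=
    ((Nat.dvd_prime ha).mp (hcardQ ▸ orderOf_dvd_natCard _)).resolve_left
      fun h => hqx (orderOf_eq_one_iff.mp h)
  obtain ⟨i, hi⟩ := Subgroup.mem_zpowers_iff.mp
    (mem_zpowers_of_prime_card hcardQ hqx : q (ψ x) ∈ Subgroup.zpowers (q x))
  have hall : ∀ w : A, q (ψ w) = q w ^ i := by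
    intro w
    obtain ⟨t, ht⟩ := Subgroup.mem_zpowers_iff.mp
      (mem_zpowers_of_prime_card hcardQ hqx : q w ∈ Subgroup.zpowers (q x))
    have hz : q ((x ^ t)⁻¹ * w) = 1 := by rw [map_mul, map_inv, map_zpow, ht, inv_mul_cancel]
    have hfix : ψ ((x ^ t)⁻¹ * w) = (x ^ t)⁻¹ * w := Subtype.ext (by
      show l * ((x ^ t)⁻¹ * w : A) * l⁻¹ = _
      rw [hl0 _ ((hker _).mp hz), mul_inv_cancel_right])
    have h1 : q (ψ w) = q (ψ x) ^ t := by
      have h2 := congrArg q hfix
      rw [hz, map_mul, map_inv, map_zpow, map_mul, map_inv, map_zpow, inv_mul_eq_one] at h2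
      exact h2.symm
    rw [h1, ← hi, ← ht, ← zpow_mul, ← zpow_mul, mul_comm]
  have hψit : ∀ (j : ℕ), ((ψ^[j]) x : G) = l ^ j * y * (l ^ j)⁻¹ := by
    intro j
    induction j with
    | zero => simp [hxdef]
    | succ j ih =>
      rw [Function.iterate_succ_apply', pow_succ']
      show l * ((ψ^[j]) x : G) * l⁻¹ = _
      rw [ih]; group
  have hqit : ∀ j : ℕ, q ((ψ^[j]) x) = q x ^ (i ^ j) := by
    intro j
    induction j with
    | zero => simp
    | succ j ih => rw [Function.iterate_succ_apply', hall, ih, ← zpow_mul, pow_succ]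
  have hn : (ψ^[orderOf l]) x = x := Subtype.ext (by
    rw [hψit, pow_orderOf_eq_one]; simp [hxdef])
  have hmod : ((i : ZMod a)) ^ orderOf l = 1 := by
    have h1 := hqit (orderOf l)
    rw [hn] at h1
    have h2 : (orderOf (q x) : ℤ) ∣ i ^ orderOf l - 1 :=
      orderOf_dvd_iff_zpow_eq_one.mpr (by rw [zpow_sub, ← h1, zpow_one, mul_inv_cancel])
    rw [hox, ← ZMod.intCast_zmod_eq_zero_iff_dvd] at h2
    push_cast at h2
    exact sub_eq_zero.mp h2
  have hi1 : ((i : ZMod a)) = 1 := by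
    have hne : (i : ZMod a) ≠ 0 := fun h => by
      rw [h, zero_pow (orderOf_pos l).ne'] at hmod
      exact zero_ne_one hmod
    have h1 := orderOf_dvd_of_pow_eq_one hmod
    have h2 := orderOf_dvd_of_pow_eq_one (ZMod.pow_card_sub_one_eq_one hne)
    exact orderOf_eq_one_iff.mp (Nat.eq_one_of_dvd_coprimes hla1 h1 h2)
  have hqψ : q (ψ x) = q x := by
    rw [← hi]
    conv_rhs => rw [← zpow_one (q x)]
    rw [zpow_eq_zpow_iff_modEq, hox, ← ZMod.intCast_eq_intCast_iff, hi1, Int.cast_one]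
  set z : G := y⁻¹ * (l * y * l⁻¹) with hzdef
  have hz0 : z ∈ A0 := (hker (x⁻¹ * ψ x)).mp (by rw [map_mul, map_inv, hqψ, inv_mul_cancel])
  have hcz : ∀ j : ℕ, l ^ j * y * (l ^ j)⁻¹ = y * z ^ j := by
    intro j
    induction j with
    | zero => simp
    | succ j ih =>
      rw [pow_succ', pow_succ']
      calc l * l ^ j * y * (l * l ^ j)⁻¹ = l * (l ^ j * y * (l ^ j)⁻¹) * l⁻¹ := by group
        _ = l * y * z ^ j * l⁻¹ := by rw [ih]; group
        _ = l * y * l⁻¹ * (l * z ^ j * l⁻¹) := by group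
        _ = y * z * z ^ j := by
          rw [hl0 _ (A0.pow_mem hz0 j), mul_inv_cancel_right, hzdef]; group
        _ = _ := by rw [mul_assoc]
  have hzn : z ^ orderOf l = 1 := by
    have := hcz (orderOf l)
    rw [pow_orderOf_eq_one, one_mul, inv_one, mul_one] at this
    exact (mul_eq_left.mp this.symm)
  obtain ⟨k, hk⟩ := IsPGroup.iff_orderOf.mp hA ⟨z, hle hz0⟩
  rw [← Subgroup.orderOf_coe] at hk
  have hz1 : z = 1 := orderOf_eq_one_iff.mp (Nat.eq_one_of_dvd_coprimes
    (Nat.Coprime.pow_right k hla) (orderOf_dvd_of_pow_eq_one hzn) (dvd_of_eq hk))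
  have := hcz 1
  rw [pow_one, pow_one, hz1, mul_one] at this
  calc l * y = l * y * l⁻¹ * l := by group
    _ = y * l := by rw [this]

end CfsgLib.ManyPiClasses
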