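import Mathlib
import Cfsg.Agent.Lib.ManyPiClasses.Tools

/-!
Many classes of `σ`-elements force a nilpotent Hall subgroup.
-/

set_option autoImplicit false
set_option linter.style.haveILetI false

namespace CfsgLib.ManyPiClasses

open CfsgLib.ClassPi

universe u

variable {G : Type u} [Group G]

theorem isPiEl_of_isPGroup {a : ℕ} [Fact a.Prime] {A : Subgroup G} (hA : IsPGroup a A) {x : G}
    (hx : x ∈ A) : IsPiEl ({a} : Set ℕ) x := fun q hq hd => by
  obtain ⟨i, hi⟩ := IsPGroup.iff_orderOf.mp hA ⟨x, hx⟩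
  rw [← Subgroup.orderOf_coe] at hi
  rw [show orderOf x = a ^ i from hi] at hd
  exact (Nat.prime_dvd_prime_iff_eq hq Fact.out).mp (hq.dvd_of_dvd_pow hd)

theorem isPGroup_zpowers_of_isPiEl [Finite G] {a : ℕ} [Fact a.Prime] {x : G}
    (hx : IsPiEl ({a} : Set ℕ) x) : IsPGroup a (Subgroup.zpowers x) := by
  refine IsPGroup.of_card (n := (orderOf x).primeFactorsList.length) ?_
  rw [Nat.card_zpowers]
  exact Nat.eq_prime_pow_of_unique_prime_dvd (orderOf_pos x).ne' fun {q} hq hd => hx q hq hd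

theorem mk_conj (c x : G) : ConjClasses.mk (c * x * c⁻¹) = ConjClasses.mk x :=
  (ConjClasses.mk_eq_mk_iff_isConj.mpr (isConj_iff.mpr ⟨c, rfl⟩)).symm

/-- The prime `a` splits off: everything needed about the inductive situation. -/
structure Datum (G : Type u) [Group G] [Finite G] where
  /-- the primes -/
  τ : Finset ℕ
  /-- the least prime -/
  a : ℕ
  ha : a.Prime
  hτ : ∀ r ∈ τ, r.Prime
  hb : ∀ r ∈ τ, a + 1 ≤ r
  /-- a nilpotent Hall subgroup -/
  K : Subgroup G
  hK : Group.IsNilpotent K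
  hKcard : Nat.card K = mS τ G
  hdich : ∀ C : Subgroup G, mS τ G < (a + 1) * kS τ C →
    ∃ K' : Subgroup G, K' ≤ C ∧ Nat.card K' = mS τ G ∧ Group.IsNilpotent K'
  /-- a maximal `a`-subgroup of the centralizer of `K` -/
  A0 : Subgroup G
  hA0 : IsPGroup a A0
  hA0C : A0 ≤ Subgroup.centralizer (K : Set G)
  hA0max : ∀ Y : Subgroup G, IsPGroup a Y → Y ≤ Subgroup.centralizer (K : Set G) →
    ∃ h ∈ Subgroup.centralizer (K : Set G), Y.map (MulAut.conj h).toMonoidHom ≤ A0

namespace Datum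

variable [Finite G] (D : Datum G)

theorem M_pos : 0 < mS D.τ G := mS_pos D.hτ

theorem not_dvd_M : ¬ D.a ∣ mS D.τ G := fun h => by
  have := D.hb _ (prime_of_dvd_mS D.hτ D.ha h)
  omega

theorem card_le {Y : Subgroup G} (hY : IsPGroup D.a Y)
    (hYC : Y ≤ Subgroup.centralizer (D.K : Set G)) : Nat.card Y ≤ Nat.card D.A0 := by
  obtain ⟨h, -, hh⟩ := D.hA0max Y hY hYC
  rw [← CfsgLib.Transfer.card_conj_map h Y]
  exact Subgroup.card_le_of_le hh

theorem orderOf_coprime {x : G} (hx : x ∈ D.K) : (orderOf x).Coprime D.a := by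
  refine (D.ha.coprime_iff_not_dvd.mpr fun h => D.not_dvd_M ?_).symm
  exact h.trans (D.hKcard ▸ (Subgroup.orderOf_coe (⟨x, hx⟩ : D.K)).symm ▸ orderOf_dvd_natCard _)

theorem cK_le (y : G) : cK D.τ y ≤ mS D.τ G :=
  (kS_le_mS _ D.τ rfl D.hτ _).trans (mS_le D.hτ _)

theorem isPiEl_of_mem_A0 {x : G} (hx : x ∈ D.A0) : IsPiEl ({D.a} : Set ℕ) x := by
  haveI := Fact.mk D.ha
  exact isPiEl_of_isPGroup D.hA0 hx

/-- Classes with a large centralizer count meet `A0`. -/
theorem meets_of_full {y : G} (hy : IsPiEl ({D.a} : Set ℕ) y)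
    (h : mS D.τ G < (D.a + 1) * cK D.τ y) :
    ∃ y0 ∈ D.A0, ConjClasses.mk y0 = ConjClasses.mk y := by
  haveI := Fact.mk D.ha
  obtain ⟨K', hK'C, hK'card, hK'⟩ := D.hdich _ h
  obtain ⟨c, -, hc⟩ := exists_conj_in D.hτ (X := ⊤) le_top le_top hK' D.hK hK'card D.hKcard
  have hcy : c * y * c⁻¹ ∈ Subgroup.centralizer (D.K : Set G) := by
    rw [Subgroup.mem_centralizer_iff, ← hc]
    rintro _ ⟨x, hx, rfl⟩
    have := Subgroup.mem_centralizer_singleton_iff.mp (hK'C hx)
    simp only [MulEquiv.coe_toMonoidHom, MulAut.conj_apply]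
    calc c * x * c⁻¹ * (c * y * c⁻¹) = c * (x * y) * c⁻¹ := by group
      _ = c * (y * x) * c⁻¹ := by rw [this]
      _ = _ := by group
  have hpi : IsPiEl ({D.a} : Set ℕ) (c * y * c⁻¹) := fun q hq hd =>
    hy q hq (orderOf_eq_of_mk_eq (mk_conj c y) ▸ hd)
  obtain ⟨k, -, hk⟩ := D.hA0max _ (isPGroup_zpowers_of_isPiEl hpi)
    ((Subgroup.zpowers_le).mpr hcy)
  exact ⟨_, hk ⟨_, Subgroup.mem_zpowers _, rfl⟩, (mk_conj k _).trans (mk_conj c y)⟩

/-- An `a`-element normalizing both `A0` and `K` gives a bound for the classes meeting `A0`. -/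
theorem bound_moved {u : G} (hu : IsPiEl ({D.a} : Set ℕ) u)
    (huA : u ∈ Subgroup.normalizer (D.A0 : Set G)) (huK : u ∈ Subgroup.normalizer (D.K : Set G))
    (hucK : u ∉ Subgroup.centralizer (D.K : Set G)) [DecidableEq (ConjClasses G)]
    (𝒞 : Finset (ConjClasses G)) (h𝒞 : ∀ C ∈ 𝒞, ∃ y ∈ D.A0, ConjClasses.mk y = C) :
    D.a * (D.a + 1) * ∑ C ∈ 𝒞, cK D.τ C.out ≤
      Nat.card D.A0 * (2 * D.a * mS D.τ G) := by
  classical
  haveI := Fintype.ofFinite G
  set M := mS D.τ G with hM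
  set T : Finset G := Finset.univ.filter fun x => x ∈ D.A0 with hT
  set F : Finset G := T.filter fun x => u * x = x * u with hF
  set 𝒞f := 𝒞.filter fun C => ∃ x ∈ F, ConjClasses.mk x = C with h𝒞f
  set 𝒞m := 𝒞.filter fun C => ¬ ∃ x ∈ F, ConjClasses.mk x = C with h𝒞m
  have hTcard : T.card = Nat.card D.A0 := by
    rw [hT, Nat.card_eq_fintype_card, Fintype.card_subtype]
  have hcf : 𝒞f.card ≤ F.card := by
    have := count_classes (n := 1) 𝒞f F ∅ le_rfl (Finset.empty_subset _) fun C hC => by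
      obtain ⟨x, hx, hxC⟩ := (Finset.mem_filter.mp hC).2
      exact Or.inr (Finset.card_pos.mpr ⟨x, Finset.mem_filter.mpr ⟨hx, hxC⟩⟩)
    simpa using this
  have hcm : D.a * 𝒞m.card ≤ (T \ F).card := by
    have := count_classes (n := D.a) 𝒞m (T \ F) ∅ D.ha.one_le (Finset.empty_subset _) fun C hC => by
      obtain ⟨hC𝒞, hno⟩ := Finset.mem_filter.mp hC
      obtain ⟨y, hy, hyC⟩ := h𝒞 C hC𝒞
      have hyT : y ∈ T := Finset.mem_filter.mpr ⟨Finset.mem_univ _, hy⟩
      have hne : u * y ≠ y * u := fun e =>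
        hno ⟨y, Finset.mem_filter.mpr ⟨hyT, e⟩, hyC⟩
      obtain ⟨S, hS, hSz⟩ := conj_orbit D.ha hu hne
      refine Or.inr (hS.trans (Finset.card_le_card fun z hz => ?_))
      obtain ⟨j, rfl⟩ := hSz z hz
      have h1 : ConjClasses.mk (u ^ j * y * (u ^ j)⁻¹) = C := (mk_conj _ _).trans hyC
      have h2 : u ^ j * y * (u ^ j)⁻¹ ∈ T := Finset.mem_filter.mpr ⟨Finset.mem_univ _,
        (Subgroup.mem_normalizer_iff.mp (Subgroup.pow_mem _ huA j) y).mp hy⟩
      exact Finset.mem_filter.mpr ⟨Finset.mem_sdiff.mpr ⟨h2, fun h => hno ⟨_, h, h1⟩⟩, h1⟩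
    simpa using this
  have hsplit : (T \ F).card + F.card = T.card :=
    Finset.card_sdiff_add_card_eq_card (Finset.filter_subset _ _)
  have hf : ∀ C ∈ 𝒞f, D.a * (D.a + 1) * cK D.τ C.out ≤ 2 * D.a * M := by
    intro C hC
    obtain ⟨y, hy, hyC⟩ := (Finset.mem_filter.mp hC).2
    obtain ⟨hyT, hfix⟩ := Finset.mem_filter.mp hy
    rw [← hyC, cK_out]
    have hyA : y ∈ D.A0 := (Finset.mem_filter.mp hyT).2
    have := kS_sub_le_moved D.hτ D.hb (C := Subgroup.centralizer ({y} : Set G))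
      (fun x hx => Subgroup.mem_centralizer_singleton_iff.mpr
        (Subgroup.mem_centralizer_iff.mp (D.hA0C hyA) x hx))
      D.hK D.hKcard D.ha.one_le (Subgroup.mem_centralizer_singleton_iff.mpr hfix) huK hucK
      fun x _ hx => conj_orbit D.ha hu hx
    have e : D.a + 1 + (D.a - 1) = 2 * D.a := by have := D.ha.two_le; omega
    rw [e] at this
    calc D.a * (D.a + 1) * cK D.τ y = (D.a + 1) * (D.a * cK D.τ y) := by ring
      _ ≤ _ := this
  calc D.a * (D.a + 1) * ∑ C ∈ 𝒞, cK D.τ C.out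
      = ∑ C ∈ 𝒞f, D.a * (D.a + 1) * cK D.τ C.out +
          ∑ C ∈ 𝒞m, D.a * (D.a + 1) * cK D.τ C.out := by
        rw [Finset.mul_sum, h𝒞f, h𝒞m, Finset.sum_filter_add_sum_filter_not]
    _ ≤ ∑ C ∈ 𝒞f, 2 * D.a * M + ∑ C ∈ 𝒞m, D.a * (D.a + 1) * M :=
        Nat.add_le_add (Finset.sum_le_sum hf)
          (Finset.sum_le_sum fun C _ => Nat.mul_le_mul_left _ (D.cK_le _))
    _ = 𝒞f.card * (2 * D.a * M) + (D.a * 𝒞m.card) * ((D.a + 1) * M) := by
        simp only [Finset.sum_const, smul_eq_mul]; ring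
    _ ≤ F.card * (2 * D.a * M) + (T \ F).card * (2 * D.a * M) := by
        refine Nat.add_le_add (Nat.mul_le_mul_right _ hcf)
          (Nat.mul_le_mul hcm (Nat.mul_le_mul_right _ ?_))
        have := D.ha.two_le
        omega
    _ = _ := by rw [← add_mul, add_comm F.card, hsplit, hTcard]

/-- The index `3` bound for a nonabelian Hall subgroup. -/
theorem bound_nonabelian {C : Subgroup G} (hKC : D.K ≤ C)
    (hne : ¬ ∀ x ∈ D.K, ∀ y ∈ D.K, x * y = y * x) :
    27 * kS D.τ C ≤ 11 * mS D.τ G := by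
  classical
  haveI := Fintype.ofFinite G
  set Z := D.K ⊓ Subgroup.centralizer (D.K : Set G) with hZ
  have hb3 : ∀ q : ℕ, q.Prime → q ∣ mS D.τ G → 3 ≤ q := fun q hq hd => by
    have := D.hb q (prime_of_dvd_mS D.hτ hq hd)
    have := D.ha.two_le
    omega
  have h1 := kS_sub_le D.hτ hKC D.hK D.hKcard (n := 3) (by norm_num) Z inf_le_left
    fun x hx hxZ => by
      set φ : D.K → G := fun k => (k : G) * x * (k : G)⁻¹ with hφ
      refine ⟨Finset.univ.image φ, ?_, fun z hz => ?_⟩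
      · have hcard : (Finset.univ.image φ).card ∣ mS D.τ G := by
          have h2 := MulAction.card_orbit_mul_card_stabilizer_eq_card_group (ConjAct D.K) (⟨x, hx⟩ : D.K)
          have h3 : (Finset.univ.image φ).card =
              Fintype.card (MulAction.orbit (ConjAct D.K) (⟨x, hx⟩ : D.K)) := by
            rw [← Set.toFinset_card,
              ← Finset.card_image_of_injective _ (Subtype.val_injective (p := fun g => g ∈ D.K))]
            congr 1
            ext z
            simp only [Finset.mem_image, Finset.mem_univ, true_and, Set.mem_toFinset,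
              MulAction.mem_orbit_iff, hφ]
            constructor
            · rintro ⟨k, rfl⟩
              exact ⟨_, ⟨ConjAct.toConjAct k, rfl⟩, by simp [ConjAct.smul_def]⟩
            · rintro ⟨w, ⟨k, rfl⟩, rfl⟩
              exact ⟨ConjAct.ofConjAct k, by simp [ConjAct.smul_def]⟩
          rw [h3, ← D.hKcard, Nat.card_eq_fintype_card, ← ConjAct.card (G := D.K), ← h2]
          exact Dvd.intro _ rfl
        have hne1 : (Finset.univ.image φ).card ≠ 1 := fun h => hxZ ⟨hx, by
          obtain ⟨w, hw⟩ := Finset.card_eq_one.mp h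
          refine Subgroup.mem_centralizer_iff.mpr fun k hk => ?_
          have e1 : φ ⟨k, hk⟩ = w := Finset.mem_singleton.mp
            (hw ▸ Finset.mem_image_of_mem φ (Finset.mem_univ _))
          have e2 : φ 1 = w := Finset.mem_singleton.mp
            (hw ▸ Finset.mem_image_of_mem φ (Finset.mem_univ _))
          have e3 : k * x * k⁻¹ = x := by
            have := e1.trans e2.symm
            simpa [hφ] using this
          calc k * x = k * x * k⁻¹ * k := by group
            _ = x * k := by rw [e3]⟩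
        obtain ⟨q, hq, hqd⟩ := Nat.exists_prime_and_dvd hne1
        exact (hb3 q hq (hqd.trans hcard)).trans (Nat.le_of_dvd (Finset.card_pos.mpr
          ⟨φ 1, Finset.mem_image_of_mem φ (Finset.mem_univ _)⟩) hqd)
      · obtain ⟨k, -, rfl⟩ := Finset.mem_image.mp hz
        exact ⟨D.K.mul_mem (D.K.mul_mem k.2 hx) (D.K.inv_mem k.2), k, hKC k.2, rfl⟩
  -- the centre has index at least nine
  have hidx : 9 * Nat.card Z ≤ mS D.τ G := by
    set W := Subgroup.center D.K with hW
    have hZW : Nat.card Z = Nat.card W := by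
      refine Nat.card_congr
        { toFun := fun z => ⟨⟨z.1, z.2.1⟩, Subgroup.mem_center_iff.mpr fun k =>
            Subtype.ext (Subgroup.mem_centralizer_iff.mp z.2.2 k k.2)⟩
          invFun := fun w => ⟨w.1.1, w.1.2, Subgroup.mem_centralizer_iff.mpr fun k hk =>
            congrArg Subtype.val (Subgroup.mem_center_iff.mp w.2 ⟨k, hk⟩)⟩
          left_inv := fun _ => rfl
          right_inv := fun _ => rfl }
    rw [hZW, ← D.hKcard, ← W.card_mul_index, mul_comm]
    refine Nat.mul_le_mul_left _ ?_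
    have hdvd : W.index ∣ mS D.τ G := D.hKcard ▸ W.index_dvd_card
    have hncyc : ¬ IsCyclic (D.K ⧸ W) := fun hc => hne fun x hx y hy => by
      haveI := hc
      exact congrArg Subtype.val (commutative_of_cyclic_center_quotient (QuotientGroup.mk' W)
        (by rw [QuotientGroup.ker_mk']) ⟨x, hx⟩ ⟨y, hy⟩)
    have h1 : W.index ≠ 1 := fun h => hncyc <| by
      haveI : Subsingleton (D.K ⧸ W) := (Nat.card_eq_one_iff_unique.mp h).1
      exact isCyclic_of_subsingleton
    obtain ⟨q, hq, hqd⟩ := Nat.exists_prime_and_dvd h1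
    obtain ⟨c, hc⟩ := hqd
    have hc1 : c ≠ 1 := fun h => hncyc <| by
      haveI := Fact.mk hq
      exact isCyclic_of_prime_card (p := q) (by rw [← Subgroup.index, hc, h, mul_one])
    obtain ⟨r, hr, hrc⟩ := Nat.exists_prime_and_dvd hc1
    have hc0 : 0 < c := Nat.pos_of_ne_zero fun h => W.index_ne_zero_of_finite (by rw [hc, h, mul_zero])
    have hq3 := hb3 q hq ((Dvd.intro _ hc.symm).trans hdvd)
    have hr3 := hb3 r hr ((hrc.trans (Dvd.intro_left _ hc.symm)).trans hdvd)
    rw [hc]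
    exact Nat.mul_le_mul hq3 (hr3.trans (Nat.le_of_dvd hc0 hrc)) |>.trans' le_rfl
  omega

end Datum

end CfsgLib.ManyPiClasses
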