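import Mathlib
import Cfsg.Agent.Lib.ManyPiClasses.Step

/-!
The case where no `a`-element of the normalizers moves the Hall subgroup.
-/

set_option autoImplicit false
set_option linter.style.haveILetI false

namespace CfsgLib.ManyPiClasses

open CfsgLib.ClassPi

universe u

variable {G : Type u} [Group G]

namespace Datum

variable [Finite G] (D : Datum G)

/-- Some element of `C(A0)` normalizes, but does not centralize, a Sylow subgroup of `C(A0)`,
and that subgroup together with `A0` is a Sylow subgroup of `G`. -/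
theorem exists_move [Fact D.a.Prime] (A : Sylow D.a G) (hAle : D.A0 ≤ A)
    (hcard : Nat.card (A : Subgroup G) = D.a * Nat.card D.A0)
    (hL : ¬ Nat.card (A : Subgroup G) ∣
      Nat.card (Subgroup.normalizer (D.A0 : Set G) ⊓ Subgroup.normalizer (D.K : Set G) : Subgroup G)) :
    ∃ (P : Sylow D.a (Subgroup.centralizer (D.A0 : Set G))) (h : G),
      h ∈ Subgroup.centralizer (D.A0 : Set G) ∧
      h ∈ Subgroup.normalizer (((P : Subgroup (Subgroup.centralizer (D.A0 : Set G))).map
        (Subgroup.subtype _) : Subgroup G) : Set G) ∧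
      ∃ x ∈ (P : Subgroup (Subgroup.centralizer (D.A0 : Set G))).map (Subgroup.subtype _),
        h * x ≠ x * h := by
  set H := Subgroup.centralizer (D.A0 : Set G) with hH
  obtain ⟨P⟩ := (inferInstance : Nonempty (Sylow D.a H))
  refine ⟨P, ?_⟩
  by_cases hcen : Subgroup.normalizer ((P : Subgroup H) : Set H) ≤
      Subgroup.centralizer ((P : Subgroup H) : Set H)
  · exfalso
    refine hL ?_
    set N := Subgroup.normalizer (D.A0 : Set G) with hN
    set L := N ⊓ Subgroup.normalizer (D.K : Set G) with hLdef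
    obtain ⟨M1, hM1n, hM1c⟩ :=
      CfsgLib.Transfer.exists_normal_complement_of_hall_central _ P.card_coprime_index hcen
    haveI := hM1n
    set M1G := M1.map H.subtype with hM1G
    have hidx : M1.index = Nat.card (P : Subgroup H) := hM1c.symm.index_eq_card
    obtain ⟨i, hi⟩ := IsPGroup.iff_card.mp P.2
    have hmem : ∀ x ∈ H, (orderOf x).Coprime D.a → x ∈ M1G := fun x hx hco =>
      ⟨⟨x, hx⟩, mem_of_coprime_index (by
        rw [hidx, hi, ← Subgroup.orderOf_coe]; exact Nat.Coprime.pow_right i hco), rfl⟩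
    have hKH : D.K ≤ H := fun x hx => Subgroup.mem_centralizer_iff.mpr fun y hy =>
      (Subgroup.mem_centralizer_iff.mp (D.hA0C hy) x hx).symm
    have hKM : D.K ≤ M1G := fun x hx => hmem x (hKH hx) (D.orderOf_coprime hx)
    have hHN : H ≤ N := Subgroup.centralizer_le_normalizer _
    have hM1N : M1G ≤ N := (Subgroup.map_subtype_le _).trans hHN
    have hconjH : ∀ n ∈ N, ∀ x ∈ H, n * x * n⁻¹ ∈ H := fun n hn x hx => by
      refine Subgroup.mem_centralizer_iff.mpr fun y hy => ?_
      have hy' : n⁻¹ * y * n ∈ D.A0 := by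
        have := (Subgroup.mem_normalizer_iff.mp (N.inv_mem hn) y).mp hy
        simpa using this
      have hc := Subgroup.mem_centralizer_iff.mp hx _ hy'
      calc y * (n * x * n⁻¹) = n * ((n⁻¹ * y * n) * x) * n⁻¹ := by group
        _ = n * (x * (n⁻¹ * y * n)) * n⁻¹ := by rw [hc]
        _ = _ := by group
    have hcop : ∀ x ∈ M1G, (orderOf x).Coprime D.a := by
      rintro _ ⟨x, hx, rfl⟩
      refine (D.ha.coprime_iff_not_dvd.mpr fun h => ?_).symm
      have h1 : D.a ∣ Nat.card M1 := by
        refine h.trans ?_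
        rw [Subgroup.subtype_apply, Subgroup.orderOf_coe]
        exact (Subgroup.orderOf_coe (⟨x, hx⟩ : M1)).symm ▸ orderOf_dvd_natCard _
      rw [← hM1c.index_eq_card] at h1
      exact P.not_dvd_index h1
    have hM1norm : ∀ n ∈ N, ∀ x ∈ M1G, n * x * n⁻¹ ∈ M1G := fun n hn x hx =>
      hmem _ (hconjH n hn x ((Subgroup.map_subtype_le _) hx))
        (orderOf_eq_of_mk_eq (mk_conj n x) ▸ hcop x hx)
    -- every element of `N` is a product from `M1G` and `L`
    have hfac : ∀ n ∈ N, ∃ m ∈ M1G, m⁻¹ * n ∈ L := by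
      intro n hn
      set K' := D.K.map (MulAut.conj n).toMonoidHom with hK'
      obtain ⟨m, hm, hmK⟩ := exists_conj_in D.hτ hKM
        (show K' ≤ M1G by rintro _ ⟨x, hx, rfl⟩; exact hM1norm n hn x (hKM hx))
        D.hK ((Group.isNilpotent_congr (D.K.equivMapOfInjective _ (MulAut.conj n).injective)).mp D.hK)
        D.hKcard ((CfsgLib.Transfer.card_conj_map n D.K).trans D.hKcard)
      refine ⟨m, hm, N.mul_mem (N.inv_mem (hM1N hm)) hn, mem_normalizer_of_map_conj ?_⟩
      rw [← CfsgLib.Transfer.map_conj_mul, ← hK', ← hmK, CfsgLib.Transfer.map_conj_mul,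
        inv_mul_cancel, map_one]
      exact Subgroup.map_id _
    set NN := M1G.subgroupOf N with hNN
    haveI : NN.Normal := ⟨fun x hx n => hM1norm n n.2 _ hx⟩
    set LL := L.subgroupOf N with hLL
    have htop : LL ⊔ NN = ⊤ := by
      refine top_le_iff.mp fun n _ => ?_
      obtain ⟨m, hm, hml⟩ := hfac n n.2
      have e : n = ⟨m, hM1N hm⟩ * ⟨m⁻¹ * n, hml.1⟩ := Subtype.ext (by simp)
      rw [e]
      exact mul_mem (Subgroup.mem_sup_right hm) (Subgroup.mem_sup_left hml)
    have hidxN : NN.index ∣ Nat.card L := by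
      rw [← Subgroup.relIndex_top_right, ← htop, Subgroup.relIndex_sup_right,
        ← Nat.card_congr (Subgroup.subgroupOfEquivOfLe (inf_le_left : L ≤ N)).toEquiv]
      exact Subgroup.relIndex_dvd_card _ _
    have hAN : (A : Subgroup G) ≤ N := by
      haveI : (D.A0.subgroupOf (A : Subgroup G)).Normal := by
        refine Subgroup.normal_of_index_eq_minFac_card ?_
        have h1 := (D.A0.subgroupOf (A : Subgroup G)).card_mul_index
        rw [Nat.card_congr (Subgroup.subgroupOfEquivOfLe hAle).toEquiv, hcard, mul_comm] at h1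
        obtain ⟨e, he⟩ := IsPGroup.iff_card.mp A.2
        rw [Nat.eq_of_mul_eq_mul_right Nat.card_pos h1, he, D.ha.pow_minFac]
        rintro rfl
        rw [pow_zero] at he
        have := D.ha.two_le
        have := Nat.le_of_dvd Nat.one_pos (Dvd.intro _ (he ▸ hcard).symm)
        omega
      exact Subgroup.normal_subgroupOf_iff_le_normalizer hAle |>.mp inferInstance
    have hdvd : Nat.card (A : Subgroup G) ∣ Nat.card NN * NN.index :=
      NN.card_mul_index ▸ Subgroup.card_dvd_of_le hAN
    refine (Nat.Coprime.dvd_of_dvd_mul_left ?_ hdvd).trans hidxN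
    obtain ⟨e, he⟩ := IsPGroup.iff_card.mp A.2
    rw [he, Nat.card_congr (Subgroup.subgroupOfEquivOfLe hM1N).toEquiv]
    refine Nat.Coprime.pow_left e (D.ha.coprime_iff_not_dvd.mpr fun hd => ?_)
    obtain ⟨x, hx⟩ := exists_prime_orderOf_dvd_card' (G := M1G) D.a hd
    have := hcop x x.2
    rw [Subgroup.orderOf_coe, hx] at this
    exact D.ha.ne_one ((Nat.coprime_self _).mp this)
  · obtain ⟨h, hh, hnc⟩ := SetLike.not_le_iff_exists.mp hcen
    have : ∃ x ∈ (P : Subgroup H), h * x ≠ x * h := by
      by_contra hall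
      push Not at hall
      exact hnc (Subgroup.mem_centralizer_iff.mpr fun x hx => (hall x hx).symm)
    obtain ⟨x, hx, hne⟩ := this
    refine ⟨h, h.2, Subgroup.le_normalizer_map _ ⟨h, hh, rfl⟩, x, ⟨x, hx, rfl⟩, fun e => hne ?_⟩
    exact Subtype.ext e

/-- In an abelian `K` with `N_{C(A0)}(K) = C_{C(A0)}(K)` the centralizer of `K` has a larger
`a`-subgroup, which is impossible. -/
theorem false_of_central [Fact D.a.Prime]
    (P : Sylow D.a (Subgroup.centralizer (D.A0 : Set G))) {A' : Subgroup G}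
    (hA' : IsPGroup D.a A') (hle : D.A0 ≤ A') (hcard : Nat.card A' = D.a * Nat.card D.A0)
    (hPA : ∀ g ∈ Subgroup.normalizer (((P : Subgroup (Subgroup.centralizer (D.A0 : Set G))).map
        (Subgroup.subtype _) : Subgroup G) : Set G),
      g ∈ Subgroup.centralizer (D.A0 : Set G) → g ∈ Subgroup.normalizer (A' : Set G))
    (hab : ∀ x ∈ D.K, ∀ y ∈ D.K, x * y = y * x)
    (hcen : Subgroup.centralizer (D.A0 : Set G) ⊓ Subgroup.normalizer (D.K : Set G) ≤
      Subgroup.centralizer (D.K : Set G)) : False := by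
  revert P hPA
  set H := Subgroup.centralizer (D.A0 : Set G) with hH
  intro P hPA
  have hKH : D.K ≤ H := fun x hx => Subgroup.mem_centralizer_iff.mpr fun y hy =>
    (Subgroup.mem_centralizer_iff.mp (D.hA0C hy) x hx).symm
  set KH := D.K.subgroupOf H with hKHdef
  have hKHcard : Nat.card KH = mS D.τ G :=
    (Nat.card_congr (Subgroup.subgroupOfEquivOfLe hKH).toEquiv).trans D.hKcard
  have hcopH : (Nat.card KH).Coprime KH.index := by
    rw [hKHcard, ← D.hKcard]
    exact (mS_coprime D.hτ D.hKcard).coprime_dvd_right (Subgroup.relIndex_dvd_index_of_le hKH)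
  obtain ⟨M2, hM2n, hM2c⟩ := CfsgLib.Transfer.exists_normal_complement_of_hall_central KH hcopH
    (fun g hg => Subgroup.mem_centralizer_iff.mpr fun k hk => Subtype.ext <| by
      refine Subgroup.mem_centralizer_iff.mp (hcen ⟨g.2, Subgroup.mem_normalizer_iff.mpr
        fun x => ⟨fun hx => ?_, fun hx => ?_⟩⟩) k hk
      · exact (Subgroup.mem_normalizer_iff.mp hg ⟨x, hKH hx⟩).mp hx
      · have hxH : x ∈ H := by
          have h1 := H.mul_mem (H.mul_mem (H.inv_mem g.2) (hKH hx)) g.2
          simpa [mul_assoc] using h1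
        exact (Subgroup.mem_normalizer_iff.mp hg ⟨x, hxH⟩).mpr hx)
  haveI := hM2n
  have hidx : M2.index = mS D.τ G := hM2c.symm.index_eq_card.trans hKHcard
  have hMcop : (mS D.τ G).Coprime D.a := (D.ha.coprime_iff_not_dvd.mpr D.not_dvd_M).symm
  have hPM : (P : Subgroup H) ≤ M2 := fun x hx => mem_of_coprime_index (by
    obtain ⟨i, hi⟩ := IsPGroup.iff_orderOf.mp P.2 ⟨x, hx⟩
    rw [hidx, show orderOf x = D.a ^ i from (Subgroup.orderOf_coe (⟨x, hx⟩ : (P : Subgroup H))).trans hi]
    exact (Nat.Coprime.pow_left i hMcop.symm))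
  -- Frattini and Schur-Zassenhaus
  set R := Subgroup.normalizer ((P : Subgroup H) : Set H) with hR
  set MR := M2.subgroupOf R with hMR
  have hMRidx : MR.index = mS D.τ G := by
    rw [← hidx, ← Subgroup.relIndex_top_right M2, ← Sylow.normalizer_sup_eq_top' P hPM,
      Subgroup.relIndex_sup_right]
    rfl
  have hMRcop : (Nat.card MR).Coprime MR.index := by
    rw [hMRidx, ← hKHcard]
    refine Nat.Coprime.coprime_dvd_left (Subgroup.card_comap_dvd_of_injective M2 R.subtype
      R.subtype_injective) ?_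
    rw [← hM2c.index_eq_card]
    exact hcopH.symm
  obtain ⟨L, hLc⟩ := Subgroup.exists_right_complement'_of_coprime hMRcop
  have hLcard : Nat.card L = mS D.τ G := by rw [← hLc.symm.index_eq_card, hMRidx]
  -- the quotient by `M2` is commutative
  set q := QuotientGroup.mk' M2 with hq
  have hqK : ∀ w : H, ∃ k ∈ KH, q k = q w := by
    intro w
    obtain ⟨⟨n, k⟩, hnk⟩ := hM2c.2 w
    refine ⟨k, k.2, ?_⟩
    simp only at hnk
    rw [← hnk, map_mul, show q (n : H) = 1 from (QuotientGroup.eq_one_iff _).mpr n.2, one_mul]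
  have hLab : ∀ x y : L, x * y = y * x := by
    intro x y
    obtain ⟨k, hk, hkx⟩ := hqK ((x : R) : H)
    obtain ⟨k', hk', hky⟩ := hqK ((y : R) : H)
    have hkk : k * k' = k' * k := Subtype.ext (hab _ hk _ hk')
    have h1 : q ((((x * y) * (y * x)⁻¹ : L) : R) : H) = 1 := by
      simp only [Subgroup.coe_mul, Subgroup.coe_inv, map_mul, map_inv, ← hkx, ← hky]
      rw [← map_mul, ← map_mul, hkk, mul_inv_cancel]
    have h2 : (((x * y) * (y * x)⁻¹ : L) : R) ∈ MR ⊓ L :=
      ⟨Subgroup.mem_subgroupOf.mpr ((QuotientGroup.eq_one_iff (N := M2) _).mp h1), Subtype.prop _⟩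
    rw [hLc.disjoint.eq_bot, Subgroup.mem_bot] at h2
    exact mul_inv_eq_one.mp (Subtype.ext h2)
  set φ : L →* G := H.subtype.comp (R.subtype.comp L.subtype) with hφ
  have hφinj : Function.Injective φ :=
    H.subtype_injective.comp (R.subtype_injective.comp L.subtype_injective)
  set LG := φ.range with hLG
  have hLGcard : Nat.card LG = mS D.τ G :=
    (Nat.card_congr (MonoidHom.ofInjective hφinj).toEquiv).symm.trans hLcard
  have hLGnil : Group.IsNilpotent LG := by
    refine (Group.isNilpotent_congr (MonoidHom.ofInjective hφinj)).mp ?_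
    letI : CommGroup L := { (inferInstance : Group L) with mul_comm := hLab }
    exact inferInstance
  -- `LG` centralizes `A'`
  have hcentr : ∀ l ∈ LG, ∀ y ∈ A', l * y = y * l := by
    rintro _ ⟨w, rfl⟩
    have ho : orderOf (φ w) ∣ mS D.τ G := by
      rw [orderOf_injective φ hφinj, ← hLcard]; exact orderOf_dvd_natCard _
    have hwH : φ w ∈ H := ((w : R) : H).2
    refine commute_of_fix_index_prime D.ha hA' hle hcard ?_ ?_ (hMcop.coprime_dvd_left ho) ?_
    · refine hPA _ (Subgroup.le_normalizer_map _ ?_) hwH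
      exact Subgroup.mem_map_of_mem H.subtype (w : R).2
    · exact fun z hz => (Subgroup.mem_centralizer_iff.mp hwH z hz).symm
    · refine Nat.coprime_of_dvd fun r hr h1 h2 => ?_
      have := D.hb r (prime_of_dvd_mS D.hτ hr (h1.trans ho))
      have := D.ha.two_le
      have := Nat.le_of_dvd (by omega) h2
      omega
  -- conjugate back
  obtain ⟨c, -, hc⟩ := exists_conj_in D.hτ (X := ⊤) le_top le_top hLGnil D.hK hLGcard D.hKcard
  set B := A'.map (MulAut.conj c).toMonoidHom with hB
  have hBC : B ≤ Subgroup.centralizer (D.K : Set G) := by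
    rintro _ ⟨y, hy, rfl⟩
    refine Subgroup.mem_centralizer_iff.mpr fun k hk => ?_
    obtain ⟨l, hl, rfl⟩ : k ∈ LG.map (MulAut.conj c).toMonoidHom := by rw [hc]; exact hk
    exact (map_mul (MulAut.conj c) l y).symm.trans
      ((congrArg _ (hcentr l hl y hy)).trans (map_mul (MulAut.conj c) y l))
  have h1 := D.card_le (hA'.map _) hBC
  rw [CfsgLib.Transfer.card_conj_map c A', hcard] at h1
  have h2 := Nat.mul_le_mul_right (Nat.card D.A0) D.ha.two_le
  have h3 : 0 < Nat.card D.A0 := Nat.card_pos
  omega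

end Datum

end CfsgLib.ManyPiClasses
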