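import Mathlib
import Cfsg.Agent.Lib.ManyPiClasses.CaseB

/-!
The main theorem: many classes of `σ`-elements force a nilpotent Hall subgroup.
-/

set_option autoImplicit false
set_option linter.style.haveILetI false

namespace CfsgLib.ManyPiClasses

open CfsgLib.ClassPi

universe u

variable {G : Type u} [Group G]

/-- Transfer of a class sum bound. -/
theorem sum_le_card_mul {ι : Type*} (s : Finset ι) (f : ι → ℕ) {c M : ℕ}
    (h : ∀ i ∈ s, c * f i ≤ M) : c * ∑ i ∈ s, f i ≤ s.card * M := by
  rw [Finset.mul_sum]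
  exact (Finset.sum_le_sum h).trans (by rw [Finset.sum_const, smul_eq_mul])

set_option maxHeartbeats 1600000 in
/-- One inductive step. -/
theorem nilpotent_hall_step [Finite G] (σ : Finset ℕ) (hσ : ∀ r ∈ σ, r.Prime) {a : ℕ} (ha : a ∈ σ)
    (hmin : ∀ r ∈ σ, a ≤ r)
    (dich : ∀ C : Subgroup G, mS (σ.erase a) G < (a + 1) * kS (σ.erase a) C →
      ∃ K' : Subgroup G, K' ≤ C ∧ Nat.card K' = mS (σ.erase a) G ∧ Group.IsNilpotent K')
    (hm : mS σ G < a * kS σ G) :
    ∃ K : Subgroup G, Nat.card K = mS σ G ∧ Group.IsNilpotent K := by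
  classical
  haveI := Fintype.ofFinite G
  haveI : Fact a.Prime := ⟨hσ a ha⟩
  haveI := Fintype.ofFinite (PiClasses ({a} : Set ℕ) G)
  set τ := σ.erase a with hτdef
  set M := mS τ G with hM
  set k := kS σ G with hk
  obtain ⟨A₁⟩ := (inferInstance : Nonempty (Sylow a G))
  have hmA : ∀ A : Sylow a G, mS σ G = Nat.card (A : Subgroup G) * M := fun A => by
    rw [Sylow.card_eq_multiplicity, hM, mS, mS, ← Finset.mul_prod_erase σ _ ha]
  let ι : PiClasses ({a} : Set ℕ) G ↪ ConjClasses G := ⟨fun C => C.1, fun _ _ h => Subtype.ext h⟩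
  set 𝒜 : Finset (ConjClasses G) :=
    (Finset.univ : Finset (PiClasses ({a} : Set ℕ) G)).map ι with h𝒜
  have hkle : k ≤ ∑ C ∈ 𝒜, cK τ C.out := by
    refine (kS_le_sum (σ := σ) a).trans (le_of_eq ?_)
    rw [h𝒜, Finset.sum_map]
    exact Finset.sum_congr rfl fun C _ => rfl
  have h𝒜pi : ∀ C ∈ 𝒜, IsPiEl ({a} : Set ℕ) C.out := fun C hC => by
    obtain ⟨D, -, rfl⟩ := Finset.mem_map.mp hC
    exact out_spec D
  have hrep : ∀ (A : Sylow a G), ∀ C ∈ 𝒜, ∃ y ∈ (A : Subgroup G), ConjClasses.mk y = C := by
    intro A C hC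
    obtain ⟨y, hy, hyC⟩ := exists_rep_sylow A (h𝒜pi C hC)
    exact ⟨y, hy, hyC.trans (Quotient.out_eq _)⟩
  have hτp : ∀ r ∈ τ, r.Prime := fun r hr => hσ r (Finset.mem_of_mem_erase hr)
  have hb : ∀ r ∈ τ, a + 1 ≤ r := fun r hr => by
    have := hmin r (Finset.mem_of_mem_erase hr)
    have := Finset.ne_of_mem_erase hr
    omega
  have ha2 := (hσ a ha).two_le
  -- the subgroup `K`
  have hfull : ∃ C : ConjClasses G, M < (a + 1) * cK τ C.out := by
    by_contra hno
    push Not at hno
    have h1 := sum_le_card_mul 𝒜 (fun C => cK τ C.out) fun C _ => hno C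
    have h2 : 𝒜.card ≤ Nat.card (A₁ : Subgroup G) := by
      rw [h𝒜, Finset.card_map, Finset.card_univ, ← Nat.card_eq_fintype_card]
      exact kS_singleton_le A₁
    have h3 : (a + 1) * k ≤ mS σ G := by
      rw [hmA A₁]
      exact (Nat.mul_le_mul_left _ hkle).trans (h1.trans (Nat.mul_le_mul_right _ h2))
    have h4 : a * k ≤ (a + 1) * k := Nat.mul_le_mul_right _ (by omega)
    omega
  obtain ⟨C₀, hC₀⟩ := hfull
  obtain ⟨K, -, hKcard, hK⟩ := dich _ hC₀
  obtain ⟨R⟩ := (inferInstance : Nonempty (Sylow a (Subgroup.centralizer (K : Set G))))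
  let D : Datum G :=
    { τ := τ, a := a, ha := hσ a ha, hτ := hτp, hb := hb, K := K, hK := hK, hKcard := hKcard
      hdich := dich
      A0 := (R : Subgroup (Subgroup.centralizer (K : Set G))).map (Subgroup.subtype _)
      hA0 := R.2.map _
      hA0C := Subgroup.map_subtype_le _
      hA0max := fun Y hY hYC => CfsgLib.Transfer.exists_conj_le_of_not_dvd_relIndex
        (Subgroup.map_subtype_le _) (R.2.map _)
        (by
          rw [Subgroup.relIndex, Subgroup.subgroupOf, Subgroup.comap_map_eq_self_of_injective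
            (Subgroup.subtype_injective _)]
          exact R.not_dvd_index)
        hYC hY }
  haveI : Fact D.a.Prime := ⟨D.ha⟩
  set s := Nat.card D.A0 with hs
  have hs0 : 0 < s := Nat.card_pos
  obtain ⟨A, hAle⟩ := IsPGroup.exists_le_sylow D.hA0
  obtain ⟨i, hi⟩ := IsPGroup.iff_card.mp D.hA0
  obtain ⟨e, he⟩ := IsPGroup.iff_card.mp A.2
  change s = a ^ i at hi
  change Nat.card (A : Subgroup G) = a ^ e at he
  have hie : i ≤ e := (Nat.pow_le_pow_iff_right ha2).mp (hi ▸ he ▸ Subgroup.card_le_of_le hAle)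
  set 𝒜₁ := 𝒜.filter fun C => ∃ y ∈ D.A0, ConjClasses.mk y = C with h𝒜₁
  set 𝒜₂ := 𝒜.filter fun C => ¬ ∃ y ∈ D.A0, ConjClasses.mk y = C with h𝒜₂
  set S₁ := ∑ C ∈ 𝒜₁, cK τ C.out with hS₁
  set S₂ := ∑ C ∈ 𝒜₂, cK τ C.out with hS₂
  have hsum : k ≤ S₁ + S₂ := by
    rw [hS₁, hS₂, h𝒜₁, h𝒜₂, Finset.sum_filter_add_sum_filter_not]; exact hkle
  have hfi : ∀ (B : Subgroup G), (Finset.univ.filter fun x => x ∈ B).card = Nat.card B := fun B => by
    rw [Nat.card_eq_fintype_card, Fintype.card_subtype]
  have hc1 : 𝒜₁.card ≤ s := by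
    have := count_classes (n := 1) 𝒜₁ (Finset.univ.filter fun x => x ∈ D.A0) ∅ le_rfl
      (Finset.empty_subset _) fun C hC => by
        obtain ⟨y, hy, hyC⟩ := (Finset.mem_filter.mp hC).2
        exact Or.inr (Finset.card_pos.mpr
          ⟨y, Finset.mem_filter.mpr ⟨Finset.mem_filter.mpr ⟨Finset.mem_univ _, hy⟩, hyC⟩⟩)
    simp only [Finset.card_empty, mul_zero, add_zero, one_mul, hfi] at this
    exact this
  have hS2 : (a + 1) * S₂ ≤ 𝒜₂.card * M := sum_le_card_mul 𝒜₂ _ fun C hC => by
    obtain ⟨hC𝒜, hno⟩ := Finset.mem_filter.mp hC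
    by_contra hlt
    obtain ⟨y0, hy0, hy0C⟩ := D.meets_of_full (h𝒜pi C hC𝒜) (lt_of_not_ge hlt)
    exact hno ⟨y0, hy0, hy0C.trans (Quotient.out_eq _)⟩
  have hS1 : S₁ ≤ s * M := by
    have := sum_le_card_mul 𝒜₁ (fun C => cK τ C.out) (c := 1) (M := M) fun C _ => by
      rw [one_mul]; exact D.cK_le _
    rw [one_mul] at this
    exact this.trans (Nat.mul_le_mul_right _ hc1)
  -- classes outside `A0` inside a larger Sylow subgroup
  have hc2 : ∀ (n : ℕ), 1 ≤ n → ∀ (B : Sylow a G), D.A0 ≤ B →
      (∀ x ∈ (B : Subgroup G), x ∉ D.A0 →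
        n ≤ ((Finset.univ.filter fun z => z ∈ (B : Subgroup G) ∧ z ∉ D.A0).filter
          fun z => ConjClasses.mk z = ConjClasses.mk x).card) →
      n * 𝒜₂.card + s ≤ Nat.card (B : Subgroup G) := by
    intro n hn B hBle hB
    set T := Finset.univ.filter fun z => z ∈ (B : Subgroup G) ∧ z ∉ D.A0 with hT
    have := count_classes (n := n) 𝒜₂ T ∅ hn (Finset.empty_subset _) fun C hC => by
      obtain ⟨hC𝒜, hno⟩ := Finset.mem_filter.mp hC
      obtain ⟨y, hy, hyC⟩ := hrep B C hC𝒜
      exact Or.inr (hyC ▸ hB y hy fun h => hno ⟨y, h, hyC⟩)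
    simp only [Finset.card_empty, mul_zero, add_zero] at this
    have hTs : T.card + s = Nat.card (B : Subgroup G) := by
      rw [← hfi (B : Subgroup G), hs, ← hfi D.A0, ← Finset.card_union_of_disjoint]
      · congr 1
        ext z
        simp only [hT, Finset.mem_union, Finset.mem_filter, Finset.mem_univ, true_and]
        exact ⟨fun h => h.elim (fun h => h.1) (fun h => hBle h), fun h =>
          (em (z ∈ D.A0)).symm.imp (fun h' => ⟨h, h'⟩) id⟩
      · rw [Finset.disjoint_left]
        exact fun z h1 h2 => (Finset.mem_filter.mp h1).2.2 (Finset.mem_filter.mp h2).2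
    omega
  have hone : ∀ (B : Sylow a G) (x : G), x ∈ (B : Subgroup G) → x ∉ D.A0 →
      1 ≤ ((Finset.univ.filter fun z => z ∈ (B : Subgroup G) ∧ z ∉ D.A0).filter
        fun z => ConjClasses.mk z = ConjClasses.mk x).card := fun B x hx hx0 =>
    Finset.card_pos.mpr ⟨x, Finset.mem_filter.mpr
      ⟨Finset.mem_filter.mpr ⟨Finset.mem_univ _, hx, hx0⟩, rfl⟩⟩
  -- final contradiction
  have hfinal : k ≤ s * M → a * s ≤ Nat.card (A : Subgroup G) → False := fun h1 h2 => by
    have h3 := Nat.mul_le_mul_left a h1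
    have h4 := Nat.mul_le_mul_right M h2
    rw [← hmA A, mul_assoc] at h4
    omega
  rcases eq_or_lt_of_le hie with hee | hlt
  · -- `A0` is a Sylow subgroup of `G`
    have hcop : (Nat.card D.A0).Coprime (Nat.card D.K) := by
      show s.Coprime _
      rw [hi, hKcard]
      exact Nat.Coprime.pow_left i ((hσ a ha).coprime_iff_not_dvd.mpr D.not_dvd_M)
    obtain ⟨P, hP, hPn⟩ := exists_commuting_product D.hA0.isNilpotent hK hcop D.hA0C
    refine ⟨P, ?_, hPn⟩
    rw [hP, hmA A, hKcard, he, ← hee, ← hi]
  · exfalso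
    have hc2' := hc2 1 le_rfl A hAle (hone A)
    rcases Nat.lt_or_ge (i + 1) e with hlt2 | hge
    · -- `a ^ 2 * s ≤ |A|`
      have h1 : a * a * s ≤ Nat.card (A : Subgroup G) := by
        rw [he, hi, ← pow_two, ← pow_add]
        exact Nat.pow_le_pow_right (by omega) (by omega)
      have h2 : (a + 1) * k ≤ ((a + 1) * s + 𝒜₂.card) * M := by
        rw [add_mul ((a + 1) * s), mul_assoc (a + 1) s M]
        calc (a + 1) * k ≤ (a + 1) * S₁ + (a + 1) * S₂ := by
              rw [← mul_add]; exact Nat.mul_le_mul_left _ hsum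
          _ ≤ _ := Nat.add_le_add (Nat.mul_le_mul_left _ hS1) hS2
      have h3 : (a + 1) * (a * k) ≤ (a + 1) * (Nat.card (A : Subgroup G) * M) := by
        have h4 := Nat.mul_le_mul_left a h2
        have h5 : a * ((a + 1) * s + 𝒜₂.card) ≤ (a + 1) * Nat.card (A : Subgroup G) := by
          nlinarith [Nat.mul_le_mul_left a hc2', h1]
        have h6 := Nat.mul_le_mul_right M h5
        nlinarith [h4, h6]
      have h7 := Nat.le_of_mul_le_mul_left h3 (by omega)
      rw [← hmA A] at h7
      omega
    · -- `a * s = |A|`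
      have hAcard : Nat.card (A : Subgroup G) = a * s := by
        rw [he, hi, show e = i + 1 by omega, pow_succ']
      set N := Subgroup.normalizer (D.A0 : Set G) with hN
      set L := N ⊓ Subgroup.normalizer (D.K : Set G) with hLdef
      by_cases hL : Nat.card (A : Subgroup G) ∣ Nat.card L
      · -- some element moves `K`
        obtain ⟨U⟩ := (inferInstance : Nonempty (Sylow a L))
        set UG := (U : Subgroup L).map L.subtype with hUG
        have hUGp : IsPGroup a UG := U.2.map _
        have hUGcard : Nat.card (A : Subgroup G) ≤ Nat.card UG := by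
          rw [hUG, Subgroup.card_map_of_injective L.subtype_injective]
          refine Nat.le_of_dvd Nat.card_pos ?_
          rw [he] at hL ⊢
          exact U.pow_dvd_card_of_pow_dvd_card hL
        have : ¬ UG ≤ Subgroup.centralizer (D.K : Set G) := fun hle => by
          have h1 := D.card_le hUGp hle
          rw [hAcard] at hUGcard
          have h2 := Nat.mul_le_mul_right s ha2
          change _ ≤ s at h1
          omega
        obtain ⟨u, huU, hucK⟩ := SetLike.not_le_iff_exists.mp this
        have hu := isPiEl_of_isPGroup hUGp huU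
        obtain ⟨v, hv, rfl⟩ := huU
        have h1 : a * (a + 1) * S₁ ≤ s * (2 * a * M) := D.bound_moved hu v.2.1 v.2.2 hucK 𝒜₁
          fun C hC => (Finset.mem_filter.mp hC).2
        have h2 : a * (a + 1) * k ≤ a * (a + 1) * (s * M) := by
          have h3 := Nat.mul_le_mul_left (a * (a + 1)) hsum
          have h4 := Nat.mul_le_mul_left a hS2
          have h5 : 𝒜₂.card + s ≤ a * s := by rw [← hAcard]; simpa using hc2'
          have h6 := Nat.mul_le_mul_right M (Nat.mul_le_mul_left a h5)
          nlinarith [h1, h3, h4, h6]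
        exact hfinal (Nat.le_of_mul_le_mul_left h2 (by positivity)) hAcard.ge
      · -- no element moves `K`
        obtain ⟨P, h, hhH, hhN, x, hxP, hne⟩ := D.exists_move A hAle hAcard hL
        set PG := (P : Subgroup (Subgroup.centralizer (D.A0 : Set G))).map
          (Subgroup.subtype _) with hPG
        have hPN : PG ≤ N := (Subgroup.map_subtype_le _).trans (Subgroup.centralizer_le_normalizer _)
        have hA'p : IsPGroup a (D.A0 ⊔ PG : Subgroup G) :=
          IsPGroup.to_sup_of_normal_left' D.hA0 (P.2.map _) hPN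
        have hxA0 : x ∉ D.A0 := fun hx =>
          hne (Subgroup.mem_centralizer_iff.mp hhH x hx).symm
        obtain ⟨B, hB⟩ := IsPGroup.exists_le_sylow hA'p
        have hBcard : Nat.card (B : Subgroup G) = a * s := by
          rw [← hAcard, Sylow.card_eq_multiplicity, Sylow.card_eq_multiplicity]
        have hA'card : Nat.card (D.A0 ⊔ PG : Subgroup G) = a * s := by
          obtain ⟨j, hj⟩ := IsPGroup.iff_card.mp hA'p
          have h1 : s < Nat.card (D.A0 ⊔ PG : Subgroup G) :=
            lt_of_le_of_ne (Subgroup.card_le_of_le le_sup_left) fun h2 => hxA0 (by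
              rw [Subgroup.eq_of_le_of_card_ge (le_sup_left : D.A0 ≤ D.A0 ⊔ PG) h2.ge]
              exact Subgroup.mem_sup_right hxP)
          refine le_antisymm ((Subgroup.card_le_of_le hB).trans_eq hBcard) ?_
          rw [hj, hi] at h1 ⊢
          rw [← pow_succ']
          exact Nat.pow_le_pow_right (by omega) ((Nat.pow_lt_pow_iff_right ha2).mp h1)
        have hBeq : (D.A0 ⊔ PG : Subgroup G) = B :=
          Subgroup.eq_of_le_of_card_ge hB (by rw [hBcard, hA'card])
        have hnorm : ∀ g ∈ Subgroup.normalizer (PG : Set G),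
            g ∈ Subgroup.centralizer (D.A0 : Set G) →
              g ∈ Subgroup.normalizer ((D.A0 ⊔ PG : Subgroup G) : Set G) := by
          intro g hg hgc
          refine mem_normalizer_of_map_conj ?_
          have e1 : D.A0.map (MulAut.conj g).toMonoidHom = D.A0 :=
            Subgroup.mem_normalizer_iff_map_conj_eq.mp (Subgroup.centralizer_le_normalizer _ hgc)
          have e2 : PG.map (MulAut.conj g).toMonoidHom = PG :=
            Subgroup.mem_normalizer_iff_map_conj_eq.mp hg
          rw [Subgroup.map_sup, e1, e2]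
        have hBle : D.A0 ≤ (B : Subgroup G) := le_sup_left.trans hB
        have h2B : 2 * 𝒜₂.card + s ≤ a * s := hBcard ▸ hc2 2 (by norm_num) B hBle fun y hy hy0 => by
          have hfixA0 : ∀ z ∈ D.A0, h * z = z * h := fun z hz =>
            (Subgroup.mem_centralizer_iff.mp hhH z hz).symm
          have hmove : h * y ≠ y * h := fun e' => hne <| by
            set Cc := (B : Subgroup G) ⊓ Subgroup.centralizer ({h} : Set G) with hCc
            have hle : D.A0 ≤ Cc := fun z hz =>
              ⟨hBle hz, Subgroup.mem_centralizer_singleton_iff.mpr (hfixA0 z hz).symm⟩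
            have hyC : y ∈ Cc := ⟨hy, Subgroup.mem_centralizer_singleton_iff.mpr e'.symm⟩
            have h1 : s < Nat.card Cc := lt_of_le_of_ne (Subgroup.card_le_of_le hle) fun h2 =>
              hy0 (by rw [Subgroup.eq_of_le_of_card_ge hle h2.ge]; exact hyC)
            obtain ⟨j, hj⟩ := IsPGroup.iff_card.mp (B.2.to_le (inf_le_left : Cc ≤ _))
            have h2 : Nat.card (B : Subgroup G) ≤ Nat.card Cc := by
              rw [hBcard, hj, hi, ← pow_succ']
              rw [hj, hi] at h1
              exact Nat.pow_le_pow_right (by omega) ((Nat.pow_lt_pow_iff_right ha2).mp h1)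
            have hxB : x ∈ (B : Subgroup G) := hB (Subgroup.mem_sup_right hxP)
            rw [← Subgroup.eq_of_le_of_card_ge (inf_le_left : Cc ≤ _) h2] at hxB
            exact (Subgroup.mem_centralizer_singleton_iff.mp hxB.2).symm
          have hconj : h * y * h⁻¹ ∈ (B : Subgroup G) := by
            rw [← hBeq] at hy ⊢
            exact (Subgroup.mem_normalizer_iff.mp (hnorm h hhN hhH) y).mp hy
          have hconj0 : h * y * h⁻¹ ∉ D.A0 := fun h0 => hy0 <|
            (Subgroup.mem_normalizer_iff.mp (Subgroup.centralizer_le_normalizer _ hhH) y).mpr h0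
          refine le_trans (le_of_eq (Finset.card_pair (a := y) (b := h * y * h⁻¹) ?_).symm)
            (Finset.card_le_card ?_)
          · intro e'
            exact hmove (mul_inv_eq_iff_eq_mul.mp e'.symm)
          · intro z hz
            simp only [Finset.mem_insert, Finset.mem_singleton] at hz
            simp only [Finset.mem_filter, Finset.mem_univ, true_and]
            rcases hz with rfl | rfl
            · exact ⟨⟨hy, hy0⟩, rfl⟩
            · exact ⟨⟨hconj, hconj0⟩, mk_conj _ _⟩
        have hKH : D.K ≤ Subgroup.centralizer (D.A0 : Set G) := fun w hw =>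
          Subgroup.mem_centralizer_iff.mpr fun z hz =>
            (Subgroup.mem_centralizer_iff.mp (D.hA0C hz) w hw).symm
        have h1 : 2 * (a + 1) * S₁ ≤ 𝒜₁.card * ((a + 2) * M) :=
          sum_le_card_mul 𝒜₁ _ fun C hC => by
            obtain ⟨y, hy, hyC⟩ := (Finset.mem_filter.mp hC).2
            rw [← hyC, cK_out, cK]
            have hHC : Subgroup.centralizer (D.A0 : Set G) ≤ Subgroup.centralizer ({y} : Set G) :=
              Subgroup.centralizer_le (Set.singleton_subset_iff.mpr hy)
            by_cases hab : ∀ p ∈ D.K, ∀ q ∈ D.K, p * q = q * p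
            · by_cases hcen : Subgroup.centralizer (D.A0 : Set G) ⊓
                  Subgroup.normalizer (D.K : Set G) ≤ Subgroup.centralizer (D.K : Set G)
              · exact (D.false_of_central P hA'p le_sup_left hA'card hnorm hab hcen).elim
              · obtain ⟨w, hw, hwK⟩ := SetLike.not_le_iff_exists.mp hcen
                have := kS_sub_le_moved hτp hb (hKH.trans hHC) hK hKcard (n := 2) (by norm_num)
                  (hHC hw.1) hw.2 hwK fun p _ hp => by
                    refine ⟨{p, w * p * w⁻¹}, ?_, fun z hz => ?_⟩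
                    · rw [Finset.card_pair]
                      intro e'
                      exact hp (mul_inv_eq_iff_eq_mul.mp e'.symm)
                    · simp only [Finset.mem_insert, Finset.mem_singleton] at hz
                      rcases hz with rfl | rfl
                      · exact ⟨0, by simp⟩
                      · exact ⟨1, by simp⟩
                calc 2 * (a + 1) * kS τ (Subgroup.centralizer ({y} : Set G))
                    = (a + 1) * (2 * kS τ (Subgroup.centralizer ({y} : Set G))) := by ring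
                  _ ≤ _ := this
            · have := D.bound_nonabelian (hKH.trans hHC) hab
              change 27 * kS τ _ ≤ 11 * M at this
              nlinarith [Nat.mul_le_mul_left (2 * (a + 1)) this]
        have h3 : 2 * (a + 1) * k ≤ (2 * a + 1) * (s * M) := by
          have h4 := Nat.mul_le_mul_left (2 * (a + 1)) hsum
          have h5 := Nat.mul_le_mul_left 2 hS2
          have h6 := Nat.mul_le_mul_right M h2B
          have h7 := Nat.mul_le_mul_right ((a + 2) * M) hc1
          nlinarith [h1, h4, h5, h6, h7]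
        refine hfinal ?_ hAcard.ge
        by_contra hlt'
        have h4 := Nat.mul_le_mul_left (2 * (a + 1)) (Nat.succ_le_of_lt (not_le.mp hlt'))
        nlinarith [h3, h4]

theorem exists_nilpotent_hall_aux : ∀ (n : ℕ) (σ : Finset ℕ), σ.card = n → (∀ r ∈ σ, r.Prime) →
    ∀ (a₀ : ℕ), (∀ r ∈ σ, a₀ ≤ r) → ∀ (G : Type u) [Group G] [Finite G],
      mS σ G < a₀ * kS σ G →
      ∃ K : Subgroup G, Nat.card K = mS σ G ∧ Group.IsNilpotent K := by
  classical
  intro n
  induction n with
  | zero =>
    intro σ hn _ _ _ G _ _ _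
    obtain rfl := Finset.card_eq_zero.mp hn
    exact ⟨⊥, by simp [mS], inferInstance⟩
  | succ n ih =>
    intro σ hn hσ a₀ ha₀ G _ _ hm
    have hne : σ.Nonempty := Finset.card_pos.mp (by omega)
    obtain ⟨a, ha, hmin⟩ : ∃ a ∈ σ, ∀ r ∈ σ, a ≤ r :=
      ⟨σ.min' hne, σ.min'_mem hne, fun r hr => σ.min'_le r hr⟩
    have hτp : ∀ r ∈ σ.erase a, r.Prime := fun r hr => hσ r (Finset.mem_of_mem_erase hr)
    have hb : ∀ r ∈ σ.erase a, a + 1 ≤ r := fun r hr => by
      have := hmin r (Finset.mem_of_mem_erase hr)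
      have := Finset.ne_of_mem_erase hr
      omega
    refine nilpotent_hall_step σ hσ ha hmin (fun C hC => ?_)
      (hm.trans_le (Nat.mul_le_mul_right _ (ha₀ a ha)))
    have heq : mS (σ.erase a) C = mS (σ.erase a) G := by
      by_contra hne'
      have h1 := mul_mS_le hτp hb C hne'
      have h2 := Nat.mul_le_mul_left (a + 1) (kS_le_mS _ _ rfl hτp C)
      omega
    obtain ⟨K, hKc, hKn⟩ := ih (σ.erase a) (by rw [Finset.card_erase_of_mem ha]; omega) hτp (a + 1)
      hb C (by rw [heq]; exact hC)
    refine ⟨K.map C.subtype, Subgroup.map_subtype_le _, ?_, ?_⟩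
    · rw [Subgroup.card_map_of_injective C.subtype_injective, hKc, heq]
    · exact (Group.isNilpotent_congr (K.equivMapOfInjective _ C.subtype_injective)).mp hKn

theorem exists_nilpotent_hall [Finite G] (σ : Finset ℕ) (hσ : ∀ r ∈ σ, r.Prime) (a₀ : ℕ)
    (ha₀ : ∀ r ∈ σ, a₀ ≤ r) (hm : mS σ G < a₀ * kS σ G) :
    ∃ K : Subgroup G, Nat.card K = mS σ G ∧ Group.IsNilpotent K :=
  exists_nilpotent_hall_aux _ σ rfl hσ a₀ ha₀ G hm

end CfsgLib.ManyPiClasses
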