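import Mathlib
import Cfsg.Agent.Lib.ManyPiClasses.Main
import Cfsg.Agent.Lib.Char.Counting
import Cfsg.Agent.Lib.Char.Central

/-!
Consequences: the derived subgroup of the Hall subgroup is small.
-/

set_option autoImplicit false
set_option linter.style.haveILetI false

namespace CfsgLib.ManyPiClasses

open CfsgLib.ClassPi Cfsg
open scoped CfsgLib.Char

universe u

variable {G : Type u} [Group G]

theorem kS_le_conjClasses [Finite G] {σ : Finset ℕ} (hσ : ∀ r ∈ σ, r.Prime) {K : Subgroup G}
    (hK : Group.IsNilpotent K) (hcard : Nat.card K = mS σ G) :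
    kS σ G ≤ Nat.card (ConjClasses K) := by
  have h : ∀ C : PiClasses (↑σ : Set ℕ) G, ∃ k : K, ConjClasses.mk (k : G) = C.1 := fun C => by
    obtain ⟨c, hc⟩ := exists_conj_mem_of_piEl hσ hK hcard (out_spec C)
    exact ⟨⟨_, hc⟩, (mk_conj c _).trans (Quotient.out_eq _)⟩
  choose f hf using h
  refine Nat.card_le_card_of_injective (fun C => ConjClasses.mk (f C)) fun C D e => Subtype.ext ?_
  obtain ⟨w, hw⟩ := isConj_iff.mp (ConjClasses.mk_eq_mk_iff_isConj.mp e)
  rw [← hf C, ← hf D]
  exact ConjClasses.mk_eq_mk_iff_isConj.mpr (isConj_iff.mpr ⟨w, congrArg Subtype.val hw⟩)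

/-- A group whose prime divisors are at least `p` and with many classes is abelian. -/
theorem commute_of_many_classes {K : Type u} [Group K] [Finite K] {p : ℕ}
    (hp : ∀ q : ℕ, q.Prime → q ∣ Nat.card K → p ≤ q)
    (h : Nat.card K * (p ^ 2 + p - 1) < p ^ 3 * Nat.card (ConjClasses K)) :
    ∀ x y : K, x * y = y * x := by
  classical
  haveI := Fintype.ofFinite K
  haveI := Fintype.ofFinite (ConjClasses K)
  by_contra hne
  set W := Subgroup.center K with hW
  have h1 : p * Nat.card (ConjClasses K) ≤ Nat.card K + (p - 1) * Nat.card W := by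
    rcases Nat.eq_zero_or_pos p with rfl | hp0
    · simp
    have := count_classes (n := p) (Finset.univ : Finset (ConjClasses K))
      (Finset.univ : Finset K) (Finset.univ.filter fun x => x ∈ W) hp0 (Finset.subset_univ _)
      fun C _ => by
        obtain ⟨x, rfl⟩ := ConjClasses.exists_rep C
        by_cases hx : x ∈ W
        · exact Or.inl ⟨x, by simpa using hx, rfl⟩
        refine Or.inr ?_
        set S := Finset.univ.filter fun z : K => ConjClasses.mk z = ConjClasses.mk x with hS
        have h3 : S.card = Fintype.card (MulAction.orbit (ConjAct K) x) := by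
          rw [← Set.toFinset_card]
          congr 1
          ext z
          simp only [hS, Finset.mem_filter, Finset.mem_univ, true_and, Set.mem_toFinset,
            ConjAct.mem_orbit_conjAct, ConjClasses.mk_eq_mk_iff_isConj]
        have hdvd : S.card ∣ Nat.card K := by
          rw [h3, Nat.card_eq_fintype_card, ← ConjAct.card (G := K),
            ← MulAction.card_orbit_mul_card_stabilizer_eq_card_group (ConjAct K) x]
          exact Dvd.intro _ rfl
        have hne1 : S.card ≠ 1 := fun h1 => hx <| Subgroup.mem_center_iff.mpr fun k => by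
          obtain ⟨w, hw⟩ := Finset.card_eq_one.mp h1
          have e1 : k * x * k⁻¹ = w := Finset.mem_singleton.mp
            (hw ▸ Finset.mem_filter.mpr ⟨Finset.mem_univ _, mk_conj k x⟩)
          have e2 : x = w := Finset.mem_singleton.mp
            (hw ▸ Finset.mem_filter.mpr ⟨Finset.mem_univ _, rfl⟩)
          calc k * x = k * x * k⁻¹ * k := by group
            _ = x * k := by rw [e1, ← e2]
        obtain ⟨q, hq, hqd⟩ := Nat.exists_prime_and_dvd hne1
        exact (hp q hq (hqd.trans hdvd)).trans (Nat.le_of_dvd (Finset.card_pos.mpr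
          ⟨x, Finset.mem_filter.mpr ⟨Finset.mem_univ _, rfl⟩⟩) hqd)
    simp only [Finset.card_univ, ← Nat.card_eq_fintype_card] at this
    refine this.trans (le_of_eq ?_)
    rw [Nat.card_eq_fintype_card (α := W), Fintype.card_subtype]
  have hncyc : ¬ IsCyclic (K ⧸ W) := fun hc => hne fun x y => by
    haveI := hc
    exact commutative_of_cyclic_center_quotient (QuotientGroup.mk' W)
      (by rw [QuotientGroup.ker_mk']) x y
  have hidx1 : W.index ≠ 1 := fun h => hncyc <| by
    haveI : Subsingleton (K ⧸ W) := (Nat.card_eq_one_iff_unique.mp h).1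
    exact isCyclic_of_subsingleton
  obtain ⟨q, hq, c, hc⟩ := Nat.exists_prime_and_dvd hidx1
  have hc1 : c ≠ 1 := fun h => hncyc <| by
    haveI := Fact.mk hq
    exact isCyclic_of_prime_card (p := q) (by rw [← Subgroup.index, hc, h, mul_one])
  obtain ⟨r, hr, hrc⟩ := Nat.exists_prime_and_dvd hc1
  have hc0 : 0 < c := Nat.pos_of_ne_zero fun h => W.index_ne_zero_of_finite (by rw [hc, h, mul_zero])
  have h2 : p * p * Nat.card W ≤ Nat.card K := by
    rw [← W.card_mul_index, mul_comm, hc]
    exact Nat.mul_le_mul_left _ (Nat.mul_le_mul (hp q hq ((Dvd.intro _ hc.symm).trans W.index_dvd_card))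
      ((hp r hr ((hrc.trans (Dvd.intro_left _ hc.symm)).trans W.index_dvd_card)).trans
        (Nat.le_of_dvd hc0 hrc)))
  have h4 := Nat.mul_le_mul_left (p ^ 2) h1
  have h5 := Nat.mul_le_mul_left (p - 1) h2
  rcases Nat.eq_zero_or_pos p with rfl | hp0
  · simp at h
  have e : p ^ 2 + p - 1 = p ^ 2 + (p - 1) := by omega
  rw [e] at h
  nlinarith [h, h4, h5]

/-- A group whose prime divisors are at least `p`, with more than `|K| / p` classes, has derived
subgroup of order at most `p`. -/
theorem card_commutator_le {K : Type u} [Group K] [Finite K] {p : ℕ}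
    (hp : ∀ q : ℕ, q.Prime → q ∣ Nat.card K → p ≤ q)
    (h : Nat.card K < p * Nat.card (ConjClasses K)) :
    Nat.card (commutator K) ≤ p := by
  classical
  rw [← CfsgLib.Char.card_irr_eq_card_conjClasses] at h
  have hdeg : ∀ χ : IrrCharacter K, ∃ n : ℕ, (χ : K → ℂ) 1 = n ∧ 0 < n ∧ n ∣ Nat.card K :=
    fun χ => CfsgLib.Char.exists_degree_dvd_card χ.2
  choose d hd hd0 hdvd using hdeg
  have hsum : ∑ χ : IrrCharacter K, d χ ^ 2 = Nat.card K := by
    have h1 := CfsgLib.Char.sum_sq_degree (G := K)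
    simp only [hd] at h1
    exact_mod_cast h1
  set L := Finset.univ.filter fun χ : IrrCharacter K => (χ : K → ℂ) 1 = 1 with hL
  have hLcard : L.card = (commutator K).index := by
    rw [← CfsgLib.Char.card_linear (G := K), Nat.card_eq_fintype_card, Fintype.card_subtype]
  have hge : ∀ χ : IrrCharacter K, χ ∉ L → p ^ 2 ≤ d χ ^ 2 := fun χ hχ => by
    refine Nat.pow_le_pow_left ?_ 2
    have hd1 : d χ ≠ 1 := fun e => hχ (Finset.mem_filter.mpr ⟨Finset.mem_univ _, by rw [hd, e, Nat.cast_one]⟩)
    obtain ⟨q, hq, hqd⟩ := Nat.exists_prime_and_dvd hd1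
    exact (hp q hq (hqd.trans (hdvd χ))).trans (Nat.le_of_dvd (hd0 χ) hqd)
  have h1 : L.card + p ^ 2 * (Finset.univ \ L).card ≤ Nat.card K := by
    rw [← hsum, ← Finset.sum_sdiff (Finset.subset_univ L), add_comm, mul_comm, ← smul_eq_mul,
      ← Finset.sum_const]
    refine Nat.add_le_add (Finset.sum_le_sum fun χ hχ => hge χ (Finset.mem_sdiff.mp hχ).2) ?_
    calc L.card = ∑ _χ ∈ L, 1 := by simp
      _ ≤ _ := Finset.sum_le_sum fun χ _ => Nat.one_le_pow _ _ (hd0 χ)
  have h2 : (Finset.univ \ L).card + L.card = Nat.card (IrrCharacter K) := by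
    rw [Finset.card_sdiff_add_card_eq_card (Finset.subset_univ _), Finset.card_univ,
      Nat.card_eq_fintype_card]
  rw [hLcard] at h1 h2
  have h3 := (commutator K).card_mul_index
  have hi0 : 0 < (commutator K).index := Nat.pos_of_ne_zero Subgroup.index_ne_zero_of_finite
  by_contra hlt
  have h4 := Nat.mul_le_mul_right (commutator K).index (Nat.succ_le_of_lt (not_le.mp hlt))
  rw [h3] at h4
  rcases p with _ | p'
  · simp at h
  rw [← h2] at h
  nlinarith [h, h1, h4, Nat.mul_le_mul_left p' h4,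
    Nat.mul_le_mul_left (p' + 1) (Nat.succ_le_of_lt h)]

/-- Transport of the hypotheses to a finite set of primes. -/
theorem exists_finset_data [Finite G] (π : Set ℕ) (hπ : ∀ q ∈ π, q.Prime) (m : ℕ)
    (hm : m ∣ Nat.card G) (hmπ : ∀ q : ℕ, q.Prime → q ∣ m → q ∈ π)
    (hm' : ∀ q ∈ π, ¬ q ∣ Nat.card G / m) :
    ∃ σ : Finset ℕ, (∀ r ∈ σ, r.Prime) ∧ (↑σ : Set ℕ) ⊆ π ∧ mS σ G = m ∧
      Nat.card {C : ConjClasses G // ∀ q : ℕ, q.Prime →
        (∃ g : G, ConjClasses.mk g = C ∧ q ∣ orderOf g) → q ∈ π} = kS σ G := by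
  classical
  refine ⟨(Nat.card G).primeFactors.filter (· ∈ π),
    fun r hr => Nat.prime_of_mem_primeFactors (Finset.mem_filter.mp hr).1,
    fun r hr => (Finset.mem_filter.mp (Finset.mem_coe.mp hr)).2, ?_, ?_⟩
  · have hσ : ∀ r ∈ (Nat.card G).primeFactors.filter (· ∈ π), r.Prime := fun r hr =>
      Nat.prime_of_mem_primeFactors (Finset.mem_filter.mp hr).1
    have hm0 : m ≠ 0 := ne_zero_of_dvd_ne_zero Nat.card_pos.ne' hm
    refine Nat.eq_of_factorization_eq (mS_pos hσ).ne' hm0 fun q => ?_
    rw [mS_factorization hσ]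
    obtain ⟨c, hc⟩ := hm
    have hc0 : c ≠ 0 := fun e => Nat.card_pos.ne' (show Nat.card G = 0 by rw [hc, e, mul_zero])
    have hdiv : Nat.card G / m = c := by rw [hc, Nat.mul_div_cancel_left _ (Nat.pos_of_ne_zero hm0)]
    rw [hdiv] at hm'
    have hfac : (Nat.card G).factorization q = m.factorization q + c.factorization q := by
      rw [hc, Nat.factorization_mul hm0 hc0, Finsupp.add_apply]
    split_ifs with h
    · rw [hfac, Nat.factorization_eq_zero_of_not_dvd (hm' q (Finset.mem_filter.mp h).2), add_zero]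
    · symm
      by_contra hne
      have hq := Nat.prime_of_mem_primeFactors (Finsupp.mem_support_iff.mpr hne)
      exact h (Finset.mem_filter.mpr ⟨Nat.mem_primeFactors.mpr
        ⟨hq, (Nat.dvd_of_factorization_pos hne).trans (Dvd.intro _ hc.symm), Nat.card_pos.ne'⟩,
        hmπ q hq (Nat.dvd_of_factorization_pos hne)⟩)
  · refine Nat.card_congr (Equiv.subtypeEquivRight fun C => forall₂_congr fun q hq => ?_)
    refine ⟨fun h hx => ?_, fun h hx => ?_⟩
    · obtain ⟨x, hx1, hx2⟩ := hx
      exact Finset.mem_coe.mpr (Finset.mem_filter.mpr ⟨Nat.mem_primeFactors.mpr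
        ⟨hq, hx2.trans (orderOf_dvd_natCard x), Nat.card_pos.ne'⟩, h ⟨x, hx1, hx2⟩⟩)
    · exact (Finset.mem_filter.mp (Finset.mem_coe.mp (h hx))).2

end CfsgLib.ManyPiClasses
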